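import Cfsg.Agent.Lib.Helper8.AutDm.FactsD
import Mathlib

/-!
# `Ω⁺_{2κ+4}(F)`: the centre and the non-commutation of opposite root subgroups (helper8)

The centre of the model consists of scalar matrices; opposite fundamental root subgroups do not
commute modulo the centre.
-/

set_option autoImplicit false

namespace Cfsg.Agent.Lib.Helper8.AutDm

open Matrix Cfsg Cfsg.Agent.Lib.Helper5.GLBN Cfsg.Agent.Lib.Helper8.SpBN
open Cfsg.Agent.Lib.Helper8.Tw Cfsg.Agent.PSUT
open Cfsg.Agent.Lib.Helper5.AutBN Cfsg.Agent.Lib.Helper8.AutSp Cfsg.Agent.Lib.Helper5.AutSU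
open Cfsg.Agent.Lib.Helper5.AutDO Cfsg.Agent.Lib.Helper5.BN
open scoped MatrixGroups

variable {N : ℕ} {F : Type*} [Field F] [Fintype F] (C : DC N)

/-- the centre of the model consists of diagonal elements -/
theorem center_le_TD : Subgroup.center (C.Dm F) ≤ C.TD (F := F) := by
  intro z hz
  obtain ⟨n0, hn0, -, -, hVU, -, -⟩ := C.exists_n0 (F := F)
  have hzB : z ∈ C.BD (F := F) := center_le_B C hz
  obtain ⟨u, hu, t, ht, e⟩ := C.exists_UT hzB
  have hn0N : n0 ∈ C.ND (F := F) := Subgroup.mem_sup_left hn0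
  have ht' : n0⁻¹ * t * n0 ∈ C.TD (F := F) := by
    have := (C.rdata (F := F)).N_norm n0⁻¹ (inv_mem hn0N) t ht
    rwa [inv_inv] at this
  have hv : n0⁻¹ * u * n0 ∈ C.VD (F := F) := by
    rw [← hVU] at hu
    exact mem_cj.1 hu
  have e1 : z = (n0⁻¹ * u * n0) * (n0⁻¹ * t * n0) := by
    have h1 : n0⁻¹ * z * n0 = z := by
      rw [Subgroup.mem_center_iff.1 hz n0⁻¹, inv_mul_cancel_right]
    rw [← h1, e]
    group
  have hvB : n0⁻¹ * u * n0 ∈ C.BD (F := F) := by
    have e2 : n0⁻¹ * u * n0 = z * (n0⁻¹ * t * n0)⁻¹ := by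
      rw [eq_mul_inv_iff_mul_eq]
      exact e1.symm
    rw [e2]
    exact mul_mem hzB (inv_mem (C.TD_le_BD ht'))
  have hv1 : n0⁻¹ * u * n0 = 1 := by
    have : n0⁻¹ * u * n0 ∈ C.BD (F := F) ⊓ C.VD (F := F) := ⟨hvB, hv⟩
    rwa [BD_inf_VD, Subgroup.mem_bot] at this
  rw [e1, hv1, one_mul]
  exact ht'

theorem gm_offdiag_of_mem_TD {t : C.Dm F} (ht : t ∈ C.TD (F := F)) (a b : Fin N) (hab : a ≠ b) :
    gm C t a b = 0 := by
  have h := isMono_of_mem_TT (C.mem_TD.1 ht)
  exact h a b (by rw [Equiv.Perm.one_apply]; exact hab)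

/-- a diagonal matrix commuting with `X` has equal diagonal entries at the positions of the
non-zero entries of `X` -/
theorem diag_eq_of_comm {Z X : Matrix (Fin N) (Fin N) F} (hZ : ∀ i k, i ≠ k → Z i k = 0)
    (h : Z * X = X * Z) (a b : Fin N) (hX : X a b ≠ 0) : Z a a = Z b b := by
  have h1 := congrFun (congrFun h a) b
  rw [Matrix.mul_apply, Matrix.mul_apply, Finset.sum_eq_single a, Finset.sum_eq_single b] at h1
  · rw [mul_comm] at h1
    exact mul_left_cancel₀ hX h1
  · intro m _ hm
    rw [hZ m b hm, mul_zero]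
  · intro hb
    exact absurd (Finset.mem_univ b) hb
  · intro m _ hm
    rw [hZ a m hm.symm, zero_mul]
  · intro ha
    exact absurd (Finset.mem_univ a) ha

theorem eS_apply (a b i k : Fin N) (c : F) :
    eS a b c i k = (if a = i ∧ b = k then c else 0) - (if b.rev = i ∧ a.rev = k then c else 0) := by
  unfold eS
  rw [Matrix.sub_apply, Matrix.single_apply, Matrix.single_apply]

theorem eS_apply_self (a b : Fin N) (hab' : a ≠ b.rev) (c : F) :
    (1 + eS a b c : Matrix (Fin N) (Fin N) F) a b = (if a = b then 1 else 0) + c := by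
  rw [Matrix.add_apply, Matrix.one_apply, eS_apply, if_pos (⟨rfl, rfl⟩ : a = a ∧ b = b),
    if_neg (fun h : b.rev = a ∧ a.rev = b => hab' h.1.symm), sub_zero]

theorem eS_apply_rev (a b : Fin N) (hab : a ≠ b) (hab' : a ≠ b.rev) (c : F) :
    (1 + eS a b c : Matrix (Fin N) (Fin N) F) b.rev a.rev = -c := by
  have h1 : b.rev ≠ a.rev := fun e => hab (Fin.rev_injective e).symm
  rw [Matrix.add_apply, Matrix.one_apply_ne h1, eS_apply,
    if_pos (⟨rfl, rfl⟩ : b.rev = b.rev ∧ a.rev = a.rev),
    if_neg (fun h : a = b.rev ∧ b = a.rev => hab' h.1), zero_add, zero_sub]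

theorem px_ne_rev (a b : ℕ) (ha : a < N) (hb : b < N) (h : a + b + 1 ≠ N) :
    px a ha ≠ (px b hb).rev := by
  apply fin_ne
  rw [Fin.val_rev]
  unfold px
  simp only
  omega

theorem px_ne (a b : ℕ) (ha : a < N) (hb : b < N) (h : a ≠ b) : px a ha ≠ px b hb := by
  apply fin_ne
  unfold px
  exact h

/-- the diagonal entries of a central element along a chain node -/
theorem center_diag_chain {z : C.Dm F} (hz : z ∈ Subgroup.center (C.Dm F)) {j : ℕ}
    (hj : j ≤ C.κ) :
    gm C z (px j (by have := C.hN; omega)) (px j (by have := C.hN; omega))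
        = gm C z (px (j + 1) (by have := C.hN; omega)) (px (j + 1) (by have := C.hN; omega)) ∧
      gm C z (px (j + 1) (by have := C.hN; omega)).rev (px (j + 1) (by have := C.hN; omega)).rev
        = gm C z (px j (by have := C.hN; omega)).rev (px j (by have := C.hN; omega)).rev := by
  have hN := C.hN
  have hT := center_le_TD C hz
  have hc : gm C z * gm C (C.xC j hj 1) = gm C (C.xC j hj 1) * gm C z := by
    rw [← gm_mul, ← gm_mul, Subgroup.mem_center_iff.1 hz]
  have h1 : px j (by omega) ≠ (px (j + 1) (by omega) : Fin N).rev :=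
    px_ne_rev _ _ _ _ (by omega)
  have h0 : px j (by omega) ≠ (px (j + 1) (by omega) : Fin N) := px_ne _ _ _ _ (by omega)
  constructor
  · apply diag_eq_of_comm (gm_offdiag_of_mem_TD C hT) hc
    rw [gm_xC, eS_apply_self _ _ h1, if_neg h0, zero_add]
    exact one_ne_zero
  · apply diag_eq_of_comm (gm_offdiag_of_mem_TD C hT) hc
    rw [gm_xC, eS_apply_rev _ _ h0 h1]
    exact neg_ne_zero.2 one_ne_zero

theorem tau_px_p1 : C.tau (px (C.κ + 1) (by have := C.hN; omega))
    = (px (C.κ + 1) (by have := C.hN; omega) : Fin N).rev := by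
  have hN := C.hN
  apply Fin.ext
  rw [C.tau_val, Fin.val_rev]
  unfold px
  simp only
  rw [if_pos trivial]
  omega

theorem tau_px_p0 : C.tau (px C.κ (by have := C.hN; omega)) = px C.κ (by have := C.hN; omega) :=
  C.tau_fix _ (by unfold px; simp) (by unfold px; simp)

theorem gm_GamD_xC (t : F) : gm C (C.GamD (C.xC C.κ le_rfl t))
    = 1 + eS (px C.κ (by have := C.hN; omega))
      (px (C.κ + 1) (by have := C.hN; omega) : Fin N).rev t := by
  rw [gm_GamD_eS C (gm_xC C le_rfl t), tau_px_p0, tau_px_p1]

theorem gm_GamD_yC (t : F) : gm C (C.GamD (C.yC C.κ le_rfl t))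
    = 1 + eS (px (C.κ + 1) (by have := C.hN; omega) : Fin N).rev
      (px C.κ (by have := C.hN; omega)) t := by
  rw [gm_GamD_eS C (gm_yC C le_rfl t), tau_px_p0, tau_px_p1]

/-- the diagonal entries of a central element along the fork node -/
theorem center_diag_fork {z : C.Dm F} (hz : z ∈ Subgroup.center (C.Dm F)) :
    gm C z (px C.κ (by have := C.hN; omega)) (px C.κ (by have := C.hN; omega))
      = gm C z (px (C.κ + 1) (by have := C.hN; omega)).rev
        (px (C.κ + 1) (by have := C.hN; omega)).rev := by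
  have hN := C.hN
  have hT := center_le_TD C hz
  have hc : gm C z * gm C (C.GamD (C.xC C.κ le_rfl 1))
      = gm C (C.GamD (C.xC C.κ le_rfl 1)) * gm C z := by
    rw [← gm_mul, ← gm_mul, Subgroup.mem_center_iff.1 hz]
  apply diag_eq_of_comm (gm_offdiag_of_mem_TD C hT) hc
  rw [gm_GamD_xC, eS_apply_self _ _ (by rw [Fin.rev_rev]; exact px_ne _ _ _ _ (by omega)),
    if_neg (px_ne_rev _ _ _ _ (by omega)), zero_add]
  exact one_ne_zero

/-- **the centre of the model consists of scalar matrices** -/
theorem center_scalar {z : C.Dm F} (hz : z ∈ Subgroup.center (C.Dm F)) :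
    ∃ c : F, gm C z = Matrix.diagonal fun _ => c := by
  have hN := C.hN
  have hT := center_le_TD C hz
  have key : ∀ (i : ℕ) (hi : i < N), gm C z (px i hi) (px i hi)
      = gm C z (px 0 (by omega)) (px 0 (by omega)) := by
    intro i
    induction i with
    | zero => intro _; rfl
    | succ i ih =>
      intro hi
      rw [← ih (by omega)]
      by_cases h1 : i ≤ C.κ
      · exact ((center_diag_chain C hz h1).1).symm
      · by_cases h2 : i = C.κ + 1
        · subst h2
          have e1 : (px (C.κ + 1 + 1) hi : Fin N) = (px (C.κ + 1) (by omega) : Fin N).rev := by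
            apply Fin.ext
            rw [Fin.val_rev]
            unfold px
            simp only
            omega
          rw [e1, ← center_diag_fork C hz]
          exact (center_diag_chain C hz le_rfl).1
        · have hj : N - 2 - i ≤ C.κ := by omega
          have e1 : (px (i + 1) hi : Fin N) = (px (N - 2 - i) (by omega) : Fin N).rev := by
            apply Fin.ext
            rw [Fin.val_rev]
            unfold px
            simp only
            omega
          have e2 : (px i (by omega) : Fin N) = (px (N - 2 - i + 1) (by omega) : Fin N).rev := by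
            apply Fin.ext
            rw [Fin.val_rev]
            unfold px
            simp only
            omega
          rw [e1, e2]
          exact ((center_diag_chain C hz hj).2).symm
  refine ⟨gm C z (px 0 (by omega)) (px 0 (by omega)), ?_⟩
  ext a b
  by_cases hab : a = b
  · subst hab
    rw [Matrix.diagonal_apply_eq]
    exact key a a.2
  · rw [Matrix.diagonal_apply_ne _ hab]
    exact gm_offdiag_of_mem_TD C hT a b hab

theorem eS_mul_opp (a b : Fin N) (hab : a ≠ b) (hab' : a ≠ b.rev) (s t : F) :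
    eS a b s * eS b a t = Matrix.single a a (s * t) + Matrix.single b.rev b.rev (s * t) := by
  unfold eS
  have h1 : b ≠ a.rev := fun e => hab' (by rw [e, Fin.rev_rev])
  have h2 : a.rev ≠ b := fun e => h1 e.symm
  rw [Matrix.sub_mul, Matrix.mul_sub, Matrix.mul_sub, Matrix.single_mul_single_same,
    Matrix.single_mul_single_same, Matrix.single_mul_single_of_ne _ _ _ _ h1,
    Matrix.single_mul_single_of_ne _ _ _ _ h2]
  simp

/-- opposite root elements do not commute modulo scalars -/
theorem opp_ne_scalar (a b : Fin N) (hab : a ≠ b) (hab' : a ≠ b.rev) (ha : a ≠ a.rev) (c : F) :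
    (1 + eS a b 1) * (1 + eS b a 1)
      ≠ (Matrix.diagonal fun _ => c) * ((1 + eS b a (1 : F)) * (1 + eS a b 1)) := by
  intro h
  have hba' : b ≠ a.rev := fun e => hab' (by rw [e, Fin.rev_rev])
  have e1 : (1 + eS a b (1 : F)) * (1 + eS b a 1) = 1 + eS a b 1 + eS b a 1
      + (Matrix.single a a 1 + Matrix.single b.rev b.rev 1) := by
    rw [← mul_one (1 : F), ← eS_mul_opp a b hab hab', mul_one]
    noncomm_ring
  have e2 : (1 + eS b a (1 : F)) * (1 + eS a b 1) = 1 + eS a b 1 + eS b a 1
      + (Matrix.single b b 1 + Matrix.single a.rev a.rev 1) := by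
    rw [← mul_one (1 : F), ← eS_mul_opp b a hab.symm hba', mul_one]
    noncomm_ring
  rw [e1, e2] at h
  have hab1 := congrFun (congrFun h a) b
  have haa := congrFun (congrFun h a) a
  rw [Matrix.diagonal_mul] at hab1 haa
  unfold eS at hab1 haa
  simp only [Matrix.add_apply, Matrix.sub_apply, Matrix.one_apply, Matrix.single_apply, hab,
    hab.symm, hab', hab'.symm, ha, ha.symm, hba', hba'.symm, if_true, if_false, and_true,
    and_false, true_and, false_and, and_self, sub_zero, add_zero, zero_add,
    Fin.rev_inj, Fin.rev_rev] at hab1 haa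
  revert hab1 haa
  intro hab1 haa
  have hc : c = 1 := by
    have := hab1
    simp at this
    exact this.symm
  rw [hc] at haa
  simp at haa

end Cfsg.Agent.Lib.Helper8.AutDm
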