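import Mathlib

/-!
# The automorphisms of the Dynkin diagram of type `D_{κ+2}`, `κ ≥ 3` (helper8)

The nodes are `0, …, κ` (a chain) and `κ + 1` (the fork node, joined to `κ - 1`).
-/

set_option autoImplicit false

namespace Cfsg.Agent.Lib.Helper8.AutDm

/-- adjacency in the Dynkin diagram of type `D_{κ+2}`, numerically -/
def AdjN (κ v w : ℕ) : Prop :=
  (v + 1 = w ∧ w ≤ κ) ∨ (w + 1 = v ∧ v ≤ κ) ∨ (v + 1 = κ ∧ w = κ + 1) ∨ (w + 1 = κ ∧ v = κ + 1)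

/-- adjacency in the Dynkin diagram of type `D_{κ+2}` -/
def DAdj (κ : ℕ) (i j : Fin (κ + 2)) : Prop := AdjN κ i j

theorem dAdj_symm {κ : ℕ} {i j : Fin (κ + 2)} (h : DAdj κ i j) : DAdj κ j i := by
  unfold DAdj AdjN at h ⊢
  omega

theorem adjN_stepA {κ A B C D : ℕ} (hκ : 3 ≤ κ) (h1 : AdjN κ A B) (h2 : AdjN κ A C)
    (h3 : AdjN κ A D) (n1 : B ≠ C) (n2 : B ≠ D) (n3 : C ≠ D) : A = κ - 1 := by
  by_contra hne
  have k1 : (B + 1 = A ∧ A ≤ κ) ∨ (B = A + 1 ∧ B ≤ κ) ∨ (A = κ + 1 ∧ B + 1 = κ) := by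
    unfold AdjN at h1
    omega
  have k2 : (C + 1 = A ∧ A ≤ κ) ∨ (C = A + 1 ∧ C ≤ κ) ∨ (A = κ + 1 ∧ C + 1 = κ) := by
    unfold AdjN at h2
    omega
  have k3 : (D + 1 = A ∧ A ≤ κ) ∨ (D = A + 1 ∧ D ≤ κ) ∨ (A = κ + 1 ∧ D + 1 = κ) := by
    unfold AdjN at h3
    omega
  clear h1 h2 h3
  omega

theorem adjN_stepB {κ B E : ℕ} (hκ : 3 ≤ κ) (h1 : AdjN κ (κ - 1) B) (h4 : AdjN κ B E)
    (n : E ≠ κ - 1) : B = κ - 2 := by
  have k1 : B = κ - 2 ∨ B = κ ∨ B = κ + 1 := by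
    unfold AdjN at h1
    omega
  clear h1
  unfold AdjN at h4
  omega

theorem adjN_stepC {κ C : ℕ} (hκ : 3 ≤ κ) (h2 : AdjN κ (κ - 1) C) (n : C ≠ κ - 2) :
    C = κ ∨ C = κ + 1 := by
  unfold AdjN at h2
  omega

theorem adjN_stepD {κ x X : ℕ} (hx : x + 3 ≤ κ) (h : AdjN κ X (x + 1)) (n : X ≠ x + 2) :
    X = x := by
  unfold AdjN at h
  omega

/-- the numerical form of an adjacency preserving permutation -/
theorem dgraph_values {κ : ℕ} (hκ : 3 ≤ κ) (ρ : Equiv.Perm (Fin (κ + 2)))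
    (hadj : ∀ i j, DAdj κ (ρ i) (ρ j) ↔ DAdj κ i j) :
    (∀ i : Fin (κ + 2), (i : ℕ) + 1 ≤ κ → ((ρ i : Fin (κ + 2)) : ℕ) = i) ∧
      ((∀ i : Fin (κ + 2), ((ρ i : Fin (κ + 2)) : ℕ) = i) ∨
        (∀ i : Fin (κ + 2), (κ ≤ (i : ℕ)) → ((ρ i : Fin (κ + 2)) : ℕ) + (i : ℕ) = 2 * κ + 1)) := by
  -- the values
  have hv : ∀ k, k < κ + 2 → ∃ x : Fin (κ + 2), (x : ℕ) = k := fun k hk => ⟨⟨k, hk⟩, rfl⟩
  have hinj : ∀ x y : Fin (κ + 2), (x : ℕ) ≠ y →
      ((ρ x : Fin (κ + 2)) : ℕ) ≠ (ρ y : Fin (κ + 2)) := by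
    intro x y h e
    apply h
    rw [ρ.injective (Fin.ext e)]
  obtain ⟨a, ha⟩ := hv (κ - 1) (by omega)
  obtain ⟨b, hb⟩ := hv (κ - 2) (by omega)
  obtain ⟨c, hc⟩ := hv κ (by omega)
  obtain ⟨d, hd⟩ := hv (κ + 1) (by omega)
  obtain ⟨e, he⟩ := hv (κ - 3) (by omega)
  have h1 : AdjN κ (ρ a) (ρ b) := (hadj a b).2 (by unfold DAdj AdjN; omega)
  have h2 : AdjN κ (ρ a) (ρ c) := (hadj a c).2 (by unfold DAdj AdjN; omega)
  have h3 : AdjN κ (ρ a) (ρ d) := (hadj a d).2 (by unfold DAdj AdjN; omega)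
  have h4 : AdjN κ (ρ b) (ρ e) := (hadj b e).2 (by unfold DAdj AdjN; omega)
  have sA : ((ρ a : Fin (κ + 2)) : ℕ) = κ - 1 :=
    adjN_stepA hκ h1 h2 h3 (hinj b c (by omega)) (hinj b d (by omega)) (hinj c d (by omega))
  rw [sA] at h1 h2 h3
  have sB : ((ρ b : Fin (κ + 2)) : ℕ) = κ - 2 := by
    apply adjN_stepB hκ h1 h4
    rw [← sA]
    exact hinj e a (by omega)
  have sC : ((ρ c : Fin (κ + 2)) : ℕ) = κ ∨ ((ρ c : Fin (κ + 2)) : ℕ) = κ + 1 := by
    apply adjN_stepC hκ h2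
    rw [← sB]
    exact hinj c b (by omega)
  have sD : ((ρ d : Fin (κ + 2)) : ℕ) = κ ∨ ((ρ d : Fin (κ + 2)) : ℕ) = κ + 1 := by
    apply adjN_stepC hκ h3
    rw [← sB]
    exact hinj d b (by omega)
  have nCD := hinj c d (by omega)
  -- the chain is fixed
  have chain : ∀ n, ∀ x : Fin (κ + 2), (x : ℕ) + n + 1 = κ → ((ρ x : Fin (κ + 2)) : ℕ) = x := by
    intro n
    induction n using Nat.strong_induction_on with
    | _ n ih =>
      intro x hx
      by_cases h0 : n = 0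
      · have : x = a := Fin.ext (by omega)
        rw [this, sA, ha]
      · by_cases h1' : n = 1
        · have : x = b := Fin.ext (by omega)
          rw [this, sB, hb]
        · obtain ⟨y, hy⟩ := hv ((x : ℕ) + 1) (by omega)
          obtain ⟨z, hz⟩ := hv ((x : ℕ) + 2) (by omega)
          have ey := ih (n - 1) (by omega) y (by omega)
          have ez := ih (n - 2) (by omega) z (by omega)
          have hxy : AdjN κ (ρ x) (ρ y) := (hadj x y).2 (by unfold DAdj AdjN; omega)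
          rw [ey, hy] at hxy
          apply adjN_stepD (by omega) hxy
          rw [← hz, ← ez]
          exact hinj x z (by omega)
  refine ⟨fun i hi => chain (κ - 1 - i) i (by omega), ?_⟩
  rcases sC with hC' | hC'
  · left
    intro i
    by_cases hi : (i : ℕ) + 1 ≤ κ
    · exact chain (κ - 1 - i) i (by omega)
    · have hi2 := i.2
      by_cases hik : (i : ℕ) = κ
      · have : i = c := Fin.ext (by omega)
        rw [this, hC', hc]
      · have : i = d := Fin.ext (by omega)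
        rw [this, hd]
        omega
  · right
    intro i hi
    have hi2 := i.2
    by_cases hik : (i : ℕ) = κ
    · have : i = c := Fin.ext (by omega)
      rw [this, hC', hc]
      omega
    · have : i = d := Fin.ext (by omega)
      rw [this, hd]
      omega

end Cfsg.Agent.Lib.Helper8.AutDm
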