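import Cfsg.Agent.Lib.Helper8.AutSp.Push
import Mathlib

/-!
# The normal form of an automorphism of a central quotient, second form (helper8)

The variant of `AutSp.exists_normal_form_push` in which the longest element carries the negative
fundamental root subgroups onto the positive ones up to a permutation of the nodes.
-/

set_option autoImplicit false

namespace Cfsg.Agent.Lib.Helper8.AutDm

open Cfsg Cfsg.Agent.Lib.Helper5.AutBN Cfsg.Agent.Lib.Helper8.AutSp Cfsg.Agent.Lib.Helper5.BN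

variable {G H : Type*} [Group G] [Group H]

/-- **The normal form of an automorphism of the quotient of a group with a split `(B, N)`-pair
by a normal subgroup contained in `B` and meeting `U` trivially.** -/
theorem exists_normal_form_push2 [Finite G] [Finite H] (P : BNPair G) (f : G →* H)
    (hf : Function.Surjective f) (hker : f.ker ≤ P.B) (p : ℕ) [Fact p.Prime] {ι : Type*}
    (s : ι → G) (U V : Subgroup G) (n0 : G) (Xp Xm : ι → Subgroup G)
    (hinj : Function.Injective s) (hS : Set.range s = P.S)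
    (hUp : IsPGroup p U) (hidx : ¬ p ∣ U.index)
    (hUn : ∀ b ∈ P.B, ∀ u ∈ U, b * u * b⁻¹ ∈ U) (hUB : U ≤ P.B)
    (hdec : ∀ b ∈ P.B, ∃ t ∈ P.B ⊓ P.N, ∃ u ∈ U, b = t * u)
    (hUk : U ⊓ f.ker = ⊥)
    (hUV : cj n0 U = V) (hVU : cj n0 V = U)
    (hBV : P.B ⊓ V = ⊥)
    (hopp : ∀ g : G, cj g U ⊓ P.B = ⊥ → ∃ b ∈ P.B, cj g U = cj b V)
    (hXm : ∀ i, Xm i = P.parabolic {s i} ⊓ V)
    (hopp1 : ∀ i, ∃ j, cj n0 (Xm j) = Xp i)
    (hopp2 : ∀ j, ∃ i, cj n0 (Xm j) = Xp i)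
    (hcomm : ∀ i j, i ≠ j → ∀ x ∈ Xp i, ∀ y ∈ Xm j, x * y = y * x)
    (hncomm : ∀ i, ∃ x ∈ Xp i, ∃ y ∈ Xm i, f (x * y) ≠ f (y * x))
    (θ : H ≃* H) :
    ∃ (x : H) (ρ : Equiv.Perm ι),
      (U.map f).map (θ.trans (MulAut.conj x⁻¹)).toMonoidHom = U.map f ∧
      (V.map f).map (θ.trans (MulAut.conj x⁻¹)).toMonoidHom = V.map f ∧
      (P.B.map f).map (θ.trans (MulAut.conj x⁻¹)).toMonoidHom = P.B.map f ∧
      (∀ J : Set ι, ((P.parabolic (s '' J)).map f).map (θ.trans (MulAut.conj x⁻¹)).toMonoidHom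
        = (P.parabolic (s '' (ρ '' J))).map f) ∧
      (∀ i, ((Xp i).map f).map (θ.trans (MulAut.conj x⁻¹)).toMonoidHom = (Xp (ρ i)).map f) ∧
      (∀ i, ((Xm i).map f).map (θ.trans (MulAut.conj x⁻¹)).toMonoidHom = (Xm (ρ i)).map f) := by
  have hinj' : Function.Injective (fun i => f (s i)) := by
    intro i j h
    have hi : s i ∈ P.S := by rw [← hS]; exact ⟨i, rfl⟩
    have hj : s j ∈ P.S := by rw [← hS]; exact ⟨j, rfl⟩
    have : (s i)⁻¹ * s j ∈ P.B := by
      apply hker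
      rw [MonoidHom.mem_ker, map_mul, map_inv]
      have h' : f (s i) = f (s j) := h
      rw [h', inv_mul_cancel]
    exact hinj (P.inj _ hi _ hj this)
  have hS' : Set.range (fun i => f (s i)) = (pushBN P f hf hker).S := by
    rw [pushBN_S, ← hS]
    ext y
    constructor
    · rintro ⟨i, rfl⟩
      exact ⟨s i, ⟨i, rfl⟩, rfl⟩
    · rintro ⟨_, ⟨i, rfl⟩, rfl⟩
      exact ⟨i, rfl⟩
  have hidx' : ¬ p ∣ (U.map f).index := by
    rw [Subgroup.index_map, MonoidHom.range_eq_top.2 hf, Subgroup.index_top, mul_one]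
    intro h
    exact hidx (dvd_trans h (Subgroup.index_dvd_of_le le_sup_left))
  have hnorm' : Subgroup.normalizer ((U.map f : Subgroup H) : Set H) = (pushBN P f hf hker).B := by
    apply normalizer_eq_B (pushBN P f hf hker) (U.map f)
    · rintro _ ⟨b, hb, rfl⟩ _ ⟨u, hu, rfl⟩
      exact ⟨b * u * b⁻¹, hUn b hb u hu, by rw [map_mul, map_mul, map_inv]⟩
    · exact Subgroup.map_mono hUB
    · rintro _ ⟨b, hb, rfl⟩
      obtain ⟨t, ht, u, hu, rfl⟩ := hdec b hb
      refine ⟨f t, ⟨Subgroup.mem_map_of_mem f ht.1, Subgroup.mem_map_of_mem f ht.2⟩, f u,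
        Subgroup.mem_map_of_mem f hu, map_mul f t u⟩
  have hUV' : cj (f n0) (U.map f) = V.map f := by rw [cj_map, hUV]
  have hVU' : cj (f n0) (V.map f) = U.map f := by rw [cj_map, hVU]
  have hBV' : (pushBN P f hf hker).B ⊓ V.map f = ⊥ := by
    rw [pushBN_B, ← map_inf_of_ker_le hker, hBV, Subgroup.map_bot]
  have hopp' : ∀ g : H, cj g (U.map f) ⊓ (pushBN P f hf hker).B = ⊥ →
      ∃ b ∈ (pushBN P f hf hker).B, cj g (U.map f) = cj b (V.map f) := by
    intro g' hg'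
    obtain ⟨g, rfl⟩ := hf g'
    rw [cj_map, pushBN_B, inf_comm, ← map_inf_of_ker_le hker] at hg'
    have h1 : cj g U ⊓ P.B = ⊥ := by
      rw [eq_bot_iff]
      rintro x ⟨hxU, hxB⟩
      have hx1 : f x ∈ (P.B ⊓ cj g U).map f := Subgroup.mem_map_of_mem f ⟨hxB, hxU⟩
      rw [hg', Subgroup.mem_bot] at hx1
      have hxk : x ∈ f.ker := hx1
      have hxk' : g⁻¹ * x * g⁻¹⁻¹ ∈ f.ker := (MonoidHom.normal_ker f).conj_mem _ hxk g⁻¹
      rw [inv_inv] at hxk'
      have : g⁻¹ * x * g ∈ U ⊓ f.ker := ⟨mem_cj.1 hxU, hxk'⟩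
      rw [hUk, Subgroup.mem_bot] at this
      rw [Subgroup.mem_bot]
      have e : x = g * (g⁻¹ * x * g) * g⁻¹ := by group
      rw [e, this]
      group
    obtain ⟨b, hb, hbV⟩ := hopp g h1
    exact ⟨f b, Subgroup.mem_map_of_mem f hb, by rw [cj_map, cj_map, hbV]⟩
  have hXm' : ∀ i, (Xm i).map f = (pushBN P f hf hker).parabolic {f (s i)} ⊓ V.map f := by
    intro i
    have : ({f (s i)} : Set H) = f '' {s i} := by rw [Set.image_singleton]
    rw [this, pushBN_parabolic, hXm i,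
      map_inf_of_ker_le (le_trans hker (B_le_parabolic P _))]
  have hopp1' : ∀ i, ∃ j, cj (f n0) ((Xm j).map f) = (Xp i).map f := by
    intro i
    obtain ⟨j, hj⟩ := hopp1 i
    exact ⟨j, by rw [cj_map, hj]⟩
  have hopp2' : ∀ j, ∃ i, cj (f n0) ((Xm j).map f) = (Xp i).map f := by
    intro j
    obtain ⟨i, hi⟩ := hopp2 j
    exact ⟨i, by rw [cj_map, hi]⟩
  have hcomm' : ∀ i j, i ≠ j → ∀ x ∈ (Xp i).map f, ∀ y ∈ (Xm j).map f, x * y = y * x := by
    rintro i j hij _ ⟨x, hx, rfl⟩ _ ⟨y, hy, rfl⟩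
    rw [← map_mul, ← map_mul, hcomm i j hij x hx y hy]
  have hncomm' : ∀ i, ∃ x ∈ (Xp i).map f, ∃ y ∈ (Xm i).map f, x * y ≠ y * x := by
    intro i
    obtain ⟨x, hx, y, hy, hxy⟩ := hncomm i
    refine ⟨f x, Subgroup.mem_map_of_mem f hx, f y, Subgroup.mem_map_of_mem f hy, ?_⟩
    rw [← map_mul, ← map_mul]
    exact hxy
  obtain ⟨x, ρ, h1, h2, h3, h4, h5, h6⟩ := exists_normal_form (pushBN P f hf hker) p
    (fun i => f (s i)) (U.map f) (V.map f) (f n0) (fun i => (Xp i).map f) (fun i => (Xm i).map f)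
    hinj' hS' (hUp.map f) hidx' hnorm' hUV' hVU' hBV' hopp' hXm' hopp1' hopp2' hcomm' hncomm' θ
  refine ⟨x, ρ, h1, h2, h3, ?_, h5, h6⟩
  intro J
  have e1 : (fun i => f (s i)) '' J = f '' (s '' J) := by
    rw [Set.image_image (g := f) (f := s)]
  have e2 : (fun i => f (s i)) '' (ρ '' J) = f '' (s '' (ρ '' J)) := by
    rw [Set.image_image (g := f) (f := s)]
  have := h4 J
  rw [e1, e2, pushBN_parabolic, pushBN_parabolic] at this
  exact this

end Cfsg.Agent.Lib.Helper8.AutDm
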