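import Cfsg.Agent.Lib.Helper8.AutDm.FactsF
import Cfsg.Agent.Lib.Helper8.AutDm.Push2
import Cfsg.Agent.Lib.Helper8.AutDm.DGraph
import Cfsg.Agent.Lib.Helper5.AutSU.NormalForm
import Mathlib

/-!
# `Ω⁺_{2κ+4}(F)`: the normal form of an automorphism of the central quotient, up to a
permutation of the nodes (helper8)
-/

set_option autoImplicit false

namespace Cfsg.Agent.Lib.Helper8.AutDm

open Matrix Cfsg Cfsg.Agent.Lib.Helper5.GLBN Cfsg.Agent.Lib.Helper8.SpBN
open Cfsg.Agent.Lib.Helper8.Tw Cfsg.Agent.PSUT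
open Cfsg.Agent.Lib.Helper5.AutBN Cfsg.Agent.Lib.Helper8.AutSp Cfsg.Agent.Lib.Helper5.AutSU
open Cfsg.Agent.Lib.Helper5.AutDO Cfsg.Agent.Lib.Helper5.BN
open scoped MatrixGroups

variable {N : ℕ} {F : Type*} [Field F] [Fintype F] (C : DC N)

/-- **The normal form, up to a permutation of the nodes.** -/
theorem dm_normal_form0 (p : ℕ) [Fact p.Prime] [CharP F p] {Q : Type*} [Group Q]
    (f : C.Dm F →* Q) (hf : Function.Surjective f)
    (hker : f.ker ≤ Subgroup.center (C.Dm F)) (θ : Q ≃* Q) :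
    ∃ (x : Q) (ρ : Equiv.Perm (Fin (C.κ + 2))),
      ((C.UD (F := F)).map f).map (θ.trans (MulAut.conj x⁻¹)).toMonoidHom = (C.UD (F := F)).map f ∧
      ((C.VD (F := F)).map f).map (θ.trans (MulAut.conj x⁻¹)).toMonoidHom = (C.VD (F := F)).map f ∧
      ((C.BD (F := F)).map f).map (θ.trans (MulAut.conj x⁻¹)).toMonoidHom = (C.BD (F := F)).map f ∧
      (∀ i, ((C.XD (F := F) i).map f).map (θ.trans (MulAut.conj x⁻¹)).toMonoidHom
        = (C.XD (F := F) (ρ i)).map f) ∧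
      (∀ i, ((C.YD (F := F) i).map f).map (θ.trans (MulAut.conj x⁻¹)).toMonoidHom
        = (C.YD (F := F) (ρ i)).map f) := by
  haveI : Finite Q := Finite.of_surjective f hf
  obtain ⟨n0, -, -, hUV, hVU, ho1, ho2⟩ := C.exists_n0 (F := F)
  obtain ⟨x, ρ, hU, hV, hB, -, hXp, hXm⟩ := exists_normal_form_push2 (C.bn (F := F)) f hf
    (le_trans hker (center_le_B C)) p
    (C.nD (F := F)) (C.UD (F := F)) (C.VD (F := F)) n0 (C.XD (F := F)) (C.YD (F := F))
    (nD_injective C) (C.bn_S (F := F)).symm (isPGroup_UD C p) (index_UD C p)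
    (by rw [C.bn_B]; exact UD_normal C) (by rw [C.bn_B]; exact C.UD_le_BD)
    (exists_TU C) (UD_inf_ker C f hker) hUV hVU
    (by rw [C.bn_B]; exact BD_inf_VD C) (hopp C n0 hUV)
    (YD_eq C) ho1 ho2
    (fun i j hij x hx y hy => hcomm C i j hij hx hy)
    (hncomm C f hker) θ
  exact ⟨x, ρ, hU, hV, hB, hXp, hXm⟩

theorem not_commIm {Q : Type*} [Group Q] (f : C.Dm F →* Q)
    (hker : f.ker ≤ Subgroup.center (C.Dm F)) {A B : Subgroup (C.Dm F)}
    (hA : A ≤ C.UD (F := F)) (hB : B ≤ C.UD (F := F)) (h : ∃ x ∈ A, ∃ y ∈ B, x * y ≠ y * x) :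
    ¬ CommIm f A B := by
  intro hc
  obtain ⟨x, hx, y, hy, hne⟩ := h
  apply hne
  apply f_inj_UD C f hker (mul_mem (hA hx) (hB hy)) (mul_mem (hB hy) (hA hx))
  rw [map_mul, map_mul]
  exact hc _ (Subgroup.mem_map_of_mem f hx) _ (Subgroup.mem_map_of_mem f hy)

/-! ### commutation of the positive fundamental root subgroups -/

/-- chain nodes: the positive root subgroups of non-adjacent nodes commute -/
theorem comm_XC_XC {i j : ℕ} (hi : i ≤ C.κ) (hj : j ≤ C.κ) (hij : i ≠ j) (h1 : i + 1 ≠ j)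
    (h2 : j + 1 ≠ i) {x y : C.Dm F} (hx : x ∈ C.XC i) (hy : y ∈ C.XC j) : x * y = y * x := by
  have hN := C.hN
  have hi2 : 2 * i + 2 ≤ N := by omega
  have hj2 : 2 * j + 2 ≤ N := by omega
  obtain ⟨hx1, hx2⟩ := (mem_Xp hi2).1 (C.mem_XC.1 hx)
  obtain ⟨hy1, hy2⟩ := (mem_Xp hj2).1 (C.mem_XC.1 hy)
  apply gm_injective C
  rw [gm_mul, gm_mul]
  exact up_up_comm hi2 hj2 h1 h2 hx1 hx2 hy1 hy2 hij

/-- the positive root subgroups of the last chain node and of the fork node commute -/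
theorem eS_comm_fork (a b : Fin N) (hab : a ≠ b) (hab' : a ≠ b.rev) (ha : a ≠ a.rev)
    (s t : F) : eS a b s * eS a b.rev t = eS a b.rev t * eS a b s := by
  unfold eS
  have h1 : a.rev ≠ b := fun e => hab' (by rw [← e, Fin.rev_rev])
  have h2 : a.rev ≠ b.rev := fun e => hab (Fin.rev_injective e)
  rw [Fin.rev_rev, Matrix.sub_mul, Matrix.mul_sub, Matrix.mul_sub, Matrix.sub_mul, Matrix.mul_sub,
    Matrix.mul_sub,
    Matrix.single_mul_single_of_ne _ _ _ _ hab.symm, Matrix.single_mul_single_same,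
    Matrix.single_mul_single_of_ne _ _ _ _ ha.symm, Matrix.single_mul_single_of_ne _ _ _ _ h1,
    Matrix.single_mul_single_of_ne _ _ _ _ hab'.symm, Matrix.single_mul_single_same,
    Matrix.single_mul_single_of_ne _ _ _ _ ha.symm, Matrix.single_mul_single_of_ne _ _ _ _ h2,
    mul_comm t s]

theorem comm_XC_XF {j : ℕ} (hj : j ≤ C.κ) (h1 : j + 1 ≠ C.κ) {x y : C.Dm F}
    (hx : x ∈ C.XC j) (hy : y ∈ C.XF) : x * y = y * x := by
  have hN := C.hN
  have hy' := C.mem_XF.1 hy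
  by_cases hjk : j < C.κ
  · have h := comm_XC_XC C hj le_rfl (ne_of_lt hjk) h1 (by omega) hx hy'
    have h' := congrArg (C.GamD (F := F)) h
    rw [map_mul, map_mul, C.GamD_GamD, GamD_fix_XC C hjk hx] at h'
    exact h'
  · have hjk' : j = C.κ := by omega
    subst hjk'
    obtain ⟨s, rfl⟩ := (C.mem_XC_iff le_rfl).1 hx
    obtain ⟨t, ht⟩ := (C.mem_XC_iff le_rfl).1 hy'
    have hy2 : gm C y = 1 + eS (px C.κ (by omega)) (px (C.κ + 1) (by omega) : Fin N).rev t := by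
      have := gm_GamD_xC C t
      rwa [← ht, C.GamD_GamD] at this
    apply gm_injective C
    rw [gm_mul, gm_mul]
    apply comm_of_eS (gm_xC C le_rfl s) hy2
    exact eS_comm_fork _ _ (px_ne _ _ _ _ (by omega)) (px_ne_rev _ _ _ _ (by omega))
      (px_ne_rev _ _ _ _ (by omega)) s t

/-- root elements at consecutive positions do not commute -/
theorem tri_ncomm {a b c : Fin N} (h : Tri a b c) :
    (1 + eS a b (1 : F)) * (1 + eS b c 1) ≠ (1 + eS b c 1) * (1 + eS a b 1) := by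
  intro e
  have e1 : (1 + eS a b (1 : F)) * (1 + eS b c 1)
      = 1 + eS a b 1 + eS b c 1 + eS a b 1 * eS b c 1 := by noncomm_ring
  have e2 : (1 + eS b c (1 : F)) * (1 + eS a b 1)
      = 1 + eS a b 1 + eS b c 1 + eS b c 1 * eS a b 1 := by noncomm_ring
  rw [e1, e2, eS_mul_eS h, eS_mul_eS' h] at e
  have e0 : (Matrix.single a c ((1 : F) * 1) : Matrix (Fin N) (Fin N) F)
      = Matrix.single c.rev a.rev ((1 : F) * 1) := add_left_cancel e
  have e3 := congrArg (fun M : Matrix (Fin N) (Fin N) F => M a c) e0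
  beta_reduce at e3
  rw [Matrix.single_apply, Matrix.single_apply, if_pos ⟨rfl, rfl⟩,
    if_neg (fun hh : c.rev = a ∧ a.rev = c => h.ac' hh.1.symm), mul_one] at e3
  exact one_ne_zero e3

/-- adjacent chain nodes: the positive root subgroups do not commute -/
theorem adj_ncomm_chain {i : ℕ} (hi : i + 1 ≤ C.κ) :
    ∃ x ∈ C.XC (F := F) i, ∃ y ∈ C.XC (F := F) (i + 1), x * y ≠ y * x := by
  have hN := C.hN
  have hi' : i ≤ C.κ := by omega
  refine ⟨C.xC i hi' 1, (C.mem_XC_iff hi').2 ⟨1, rfl⟩, C.xC (i + 1) hi 1,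
    (C.mem_XC_iff hi).2 ⟨1, rfl⟩, ?_⟩
  intro e
  have e' := congrArg (gm C) e
  rw [gm_mul, gm_mul, gm_xC, gm_xC] at e'
  refine tri_ncomm (tri_of_lt ?_ ?_ ?_ ?_ ?_ ?_) e' <;> unfold px <;> simp only <;> omega

/-- the fork node and the node `κ - 1`: the positive root subgroups do not commute -/
theorem adj_ncomm_fork {i : ℕ} (hi : i + 1 = C.κ) :
    ∃ x ∈ C.XC (F := F) i, ∃ y ∈ C.XF (F := F), x * y ≠ y * x := by
  have hN := C.hN
  have hi' : i ≤ C.κ := by omega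
  refine ⟨C.xC i hi' 1, (C.mem_XC_iff hi').2 ⟨1, rfl⟩, C.GamD (C.xC C.κ le_rfl 1), ?_, ?_⟩
  · rw [C.mem_XF, C.GamD_GamD]
    exact (C.mem_XC_iff le_rfl).2 ⟨1, rfl⟩
  intro e
  have e' := congrArg (gm C) e
  rw [gm_mul, gm_mul, gm_xC, gm_GamD_xC] at e'
  have hpx : (px (i + 1) (by omega) : Fin N) = px C.κ (by omega) := Fin.ext hi
  rw [hpx] at e'
  refine tri_ncomm ?_ e'
  constructor
  · exact px_ne _ _ _ _ (by omega)
  · apply fin_ne
    rw [Fin.val_rev]
    unfold px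
    simp only
    omega
  · apply fin_ne
    rw [Fin.val_rev]
    unfold px
    simp only
    omega
  · exact px_ne_rev _ _ _ _ (by omega)
  · exact px_ne_rev _ _ _ _ (by omega)
  · rw [Fin.rev_rev]
    apply fin_ne
    rw [Fin.val_rev]
    unfold px
    simp only
    omega
  · exact px_ne_rev _ _ _ _ (by omega)
  · rw [Fin.rev_rev]
    exact px_ne _ _ _ _ (by omega)
  · rw [Fin.rev_rev]
    exact px_ne _ _ _ _ (by omega)

end Cfsg.Agent.Lib.Helper8.AutDm
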