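import Cfsg.Agent.Lib.Helper5.AutDO.Opp2
import Cfsg.Agent.Lib.Helper8.AutSp.Push
import Cfsg.Agent.Lib.Helper8.Tw.FixSt
import Cfsg.Agent.H9.SpB
import Mathlib

/-!
# `Ω⁺_{2κ+4}(F)`: the split `(B, N)`-pair facts for helper5's model `C.Dm F` (helper8)
-/

set_option autoImplicit false

namespace Cfsg.Agent.Lib.Helper8.AutDm

open Matrix Cfsg Cfsg.Agent.Lib.Helper5.GLBN Cfsg.Agent.Lib.Helper8.SpBN
open Cfsg.Agent.Lib.Helper8.Tw Cfsg.Agent.PSUT
open Cfsg.Agent.Lib.Helper5.AutBN Cfsg.Agent.Lib.Helper8.AutSp Cfsg.Agent.Lib.Helper5.AutSU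
open Cfsg.Agent.Lib.Helper5.AutDO
open scoped MatrixGroups

variable {N : ℕ} {F : Type*} [Field F] [Fintype F] (C : DC N)

theorem gd_injective : Function.Injective (C.gd : C.Dm F → GL (Fin N) F) := by
  intro g h e
  exact Subtype.ext (gl_injective e)

theorem gd_one : C.gd (1 : C.Dm F) = 1 := gl_one

theorem gd_pow (g : C.Dm F) (n : ℕ) : C.gd (g ^ n) = C.gd g ^ n := map_pow C.gdHom g n

theorem mem_UD_iff_UT {g : C.Dm F} : g ∈ C.UD ↔ C.gd g ∈ UT N F :=
  mem_UU_iff_UT (g := (g : SUm N F (RingHom.id F)))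

/-- `B` normalizes `U` -/
theorem UD_normal : ∀ b ∈ C.BD (F := F), ∀ u ∈ C.UD (F := F), b * u * b⁻¹ ∈ C.UD (F := F) := by
  intro b hb u hu
  exact UU_normal (b : SUm N F (RingHom.id F)) hb (u : SUm N F (RingHom.id F)) hu

theorem isPGroup_UD (p : ℕ) [Fact p.Prime] [CharP F p] : IsPGroup p ↥(C.UD (F := F)) := by
  have h := isPGroup_UT (N := N) (F := F) p
  let f : ↥(C.UD (F := F)) →* ↥(UT N F) :=
    ((C.gdHom (F := F)).comp (C.UD (F := F)).subtype).codRestrict (UT N F)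
      (fun g => (mem_UD_iff_UT C).1 g.2)
  have hf : Function.Injective f := by
    intro a b hab
    have h1 : C.gd (a : C.Dm F) = C.gd (b : C.Dm F) :=
      congrArg (fun x : ↥(UT N F) => (x : GL (Fin N) F)) hab
    exact Subtype.ext (gd_injective C h1)
  exact h.of_injective f hf

/-- an element of `B` of `p`-power order is unitriangular -/
theorem mem_UD_of_pow (p : ℕ) [Fact p.Prime] [CharP F p] {b : C.Dm F} (hb : b ∈ C.BD (F := F))
    (k : ℕ) (h : b ^ p ^ k = 1) : b ∈ C.UD (F := F) := by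
  rw [mem_UD_iff_UT]
  apply mem_UT_of_pow p (mem_BB_iff_upper.1 hb) k
  have := gd_pow C b (p ^ k)
  rw [h, gd_one] at this
  exact this.symm

/-- `B = T U` -/
theorem exists_TU (b : C.Dm F) (hb : b ∈ (C.bn (F := F)).B) :
    ∃ t ∈ (C.bn (F := F)).B ⊓ (C.bn (F := F)).N, ∃ u ∈ C.UD (F := F), b = t * u := by
  rw [C.bn_B] at hb
  obtain ⟨u, hu, t, ht, rfl⟩ := C.exists_UT hb
  refine ⟨t, ⟨?_, ?_⟩, t⁻¹ * u * t⁻¹⁻¹, ?_, by group⟩
  · rw [C.bn_B]
    exact C.TD_le_BD ht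
  · rw [C.bn_N]
    exact C.TD_le_ND ht
  · exact UD_normal C _ (inv_mem (C.TD_le_BD ht)) _ hu

/-- the normalizer of `U` is `B` -/
theorem normalizer_UD :
    Subgroup.normalizer (C.UD (F := F) : Set (C.Dm F)) = (C.bn (F := F)).B := by
  apply normalizer_eq_B C.bn (C.UD (F := F))
  · intro b hb
    rw [C.bn_B] at hb
    exact UD_normal C b hb
  · rw [C.bn_B]
    exact C.UD_le_BD
  · exact exists_TU C

/-- `U` is a Sylow subgroup -/
theorem card_UD (p : ℕ) [Fact p.Prime] [CharP F p] :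
    Nat.card ↥(C.UD (F := F)) = p ^ (Nat.card (C.Dm F)).factorization p := by
  apply Cfsg.Agent.H9.SpB.card_eq_of_normalizer p (C.UD (F := F)) (isPGroup_UD C p)
  intro x hx k hk
  rw [normalizer_UD, C.bn_B] at hx
  exact mem_UD_of_pow C p hx k hk

theorem index_UD (p : ℕ) [hp : Fact p.Prime] [CharP F p] :
    ¬ p ∣ (C.UD (F := F)).index := by
  have h1 := Subgroup.card_mul_index (C.UD (F := F))
  rw [card_UD C p] at h1
  have hpos : Nat.card (C.Dm F) ≠ 0 := Nat.card_pos.ne'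
  intro hdvd
  have h2 : p ^ ((Nat.card (C.Dm F)).factorization p + 1) ∣ Nat.card (C.Dm F) := by
    obtain ⟨d, hd⟩ := hdvd
    refine ⟨d, ?_⟩
    rw [pow_succ, mul_assoc, ← hd]
    exact h1.symm
  exact Nat.pow_succ_factorization_not_dvd hpos hp.out h2

/-- the centre lies in `B` -/
theorem center_le_B : Subgroup.center (C.Dm F) ≤ (C.bn (F := F)).B := by
  rw [← normalizer_UD]
  intro z hz
  rw [Subgroup.mem_normalizer_iff]
  intro u
  have e : z * u * z⁻¹ = u := by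
    rw [← Subgroup.mem_center_iff.1 hz u, mul_inv_cancel_right]
  rw [e]

theorem BD_inf_VD : C.BD (F := F) ⊓ C.VD (F := F) = ⊥ := by
  rw [eq_bot_iff]
  rintro g ⟨hB, hV⟩
  have h : (g : SUm N F (RingHom.id F)) ∈ BB N F (RingHom.id F) ⊓ VV N F (RingHom.id F) :=
    ⟨hB, hV⟩
  rw [BB_inf_VV, Subgroup.mem_bot] at h
  rw [Subgroup.mem_bot]
  exact Subtype.ext h

/-- `U` meets the centre trivially -/
theorem UD_inf_center (n0 : C.Dm F) (hUV : cj n0 (C.UD (F := F)) = C.VD) :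
    C.UD (F := F) ⊓ Subgroup.center (C.Dm F) = ⊥ := by
  rw [eq_bot_iff]
  rintro z ⟨hzU, hzZ⟩
  have hzV : z ∈ C.VD (F := F) := by
    rw [← hUV, mem_cj]
    have : n0⁻¹ * z * n0 = z := by
      rw [mul_assoc, ← Subgroup.mem_center_iff.1 hzZ n0, ← mul_assoc, inv_mul_cancel, one_mul]
    rw [this]
    exact hzU
  have : z ∈ C.BD (F := F) ⊓ C.VD (F := F) := ⟨C.UD_le_BD hzU, hzV⟩
  rw [BD_inf_VD] at this
  exact this

/-- the simple reflections are distinct -/
theorem nD_injective : Function.Injective (C.nD (F := F)) := by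
  intro i j h
  apply C.rhoD_injective
  have h1 := C.isMono_nD (F := F) i
  have h2 := C.isMono_nD (F := F) j
  rw [h] at h1
  exact IsMono.unique h1 h2

end Cfsg.Agent.Lib.Helper8.AutDm
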