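import Cfsg.Agent.Lib.Helper8.AutDm.FactsA
import Cfsg.Agent.Lib.Helper5.AutDO.Perfect
import Cfsg.Agent.Lib.Helper8.Tw.UTwist
import Mathlib

/-!
# `Ω⁺_{2κ+4}(F)`: the opposite Sylow subgroups (helper8)

A conjugate of `U` meeting `B` trivially is a conjugate of `V` under `B`.
-/

set_option autoImplicit false

namespace Cfsg.Agent.Lib.Helper8.AutDm

open Matrix Cfsg Cfsg.Agent.Lib.Helper5.GLBN Cfsg.Agent.Lib.Helper8.SpBN
open Cfsg.Agent.Lib.Helper8.Tw Cfsg.Agent.PSUT
open Cfsg.Agent.Lib.Helper5.AutBN Cfsg.Agent.Lib.Helper8.AutSp Cfsg.Agent.Lib.Helper5.AutSU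
open Cfsg.Agent.Lib.Helper5.AutDO Cfsg.Agent.Lib.Helper5.BN
open scoped MatrixGroups

variable {N : ℕ} {F : Type*} [Field F] [Fintype F] (C : DC N)

include C in
/-- no coordinate is its own mirror -/
theorem ne_rev (x : Fin N) : x ≠ x.rev := by
  intro e
  have h := congrArg Fin.val e
  rw [Fin.val_rev] at h
  have := C.hN
  have := x.2
  omega

/-- the permutation of a monomial element of the model commutes with the reversal -/
theorem perm_rev {n : C.Dm F} {π : Equiv.Perm (Fin N)}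
    (hπ : IsMono ((C.gd n : GL (Fin N) F) : Matrix (Fin N) (Fin N) F) π) (b : Fin N) :
    π b.rev = (π b).rev := by
  have h1 := usig_isMono (RingHom.id F) hπ
  have h2 : usig (RingHom.id F) (C.gd n) = C.gd n := mem_UH.1 (C.gd_mem_UH n)
  rw [h2] at h1
  exact (revC_eq_self_iff π).1 (h1.unique hπ) b

/-- the shapes of a root and of its mirror coincide -/
theorem PS_rev (a b i k : Fin N) : PS b.rev a.rev i k ↔ PS a b i k := by
  unfold PS
  rw [Fin.rev_rev, Fin.rev_rev]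
  exact or_comm

/-- all positive root elements lie in the model -/
theorem xR_mem_GD (a b : Fin N) (hab : a < b) (h1 : a ≠ b.rev) (c : F) :
    xR a b (ne_of_lt hab) h1 (ne_rev C a) (ne_rev C b) c ∈ C.GD (F := F) := by
  have hsh := xR_mem_Sh a b (ne_of_lt hab) h1 (ne_rev C a) (ne_rev C b) c
  rcases lt_or_gt_of_ne h1 with h | h
  · exact C.PS_le_GD a b hab h hsh
  · apply C.PS_le_GD b.rev a.rev (Fin.rev_lt_rev.2 hab) (by rw [Fin.rev_rev]; exact h)
    exact sh_congr (fun i k _ hp => (PS_rev a b i k).2 hp) hsh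

/-- a root position which is not inverted by a monomial element `n` with `n U n⁻¹ ∩ U = 1` -/
theorem not_lt_short {n : C.Dm F} {π : Equiv.Perm (Fin N)}
    (hπ : IsMono ((C.gd n : GL (Fin N) F) : Matrix (Fin N) (Fin N) F) π)
    (h : cj n (C.UD (F := F)) ⊓ C.UD (F := F) = ⊥) (a b : Fin N) (hab : a < b)
    (h1 : a ≠ b.rev) : ¬ π a < π b := by
  intro hlt
  have h1' : π a ≠ (π b).rev := by
    rw [← perm_rev C hπ]
    intro e
    exact h1 (π.injective e)
  set r : C.Dm F := ⟨xR (π a) (π b) (ne_of_lt hlt) h1' (ne_rev C _) (ne_rev C _) 1,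
    xR_mem_GD C (π a) (π b) hlt h1' 1⟩ with hr
  have hsh : (r : SUm N F (RingHom.id F)) ∈ Sh N F (RingHom.id F) (PS (π a) (π b)) :=
    xR_mem_Sh (π a) (π b) (ne_of_lt hlt) h1' (ne_rev C _) (ne_rev C _) 1
  have hrU : r ∈ C.UD (F := F) := by
    rw [C.mem_UD]
    apply sh_le_UU _ hsh
    rintro i k (⟨rfl, rfl⟩ | ⟨rfl, rfl⟩)
    · exact hlt
    · exact Fin.rev_lt_rev.2 hlt
  have hrc : r ∈ cj n (C.UD (F := F)) := by
    rw [mem_cj, C.mem_UD]
    have h2 := sh_conj (n := (n : SUm N F (RingHom.id F))) hπ hsh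
    apply sh_le_UU _ h2
    rintro i k (⟨e1, e2⟩ | ⟨e1, e2⟩)
    · rw [π.injective e1, π.injective e2]
      exact hab
    · rw [← perm_rev C hπ] at e1 e2
      rw [π.injective e1, π.injective e2]
      exact Fin.rev_lt_rev.2 hab
  have hr1 : r ∈ cj n (C.UD (F := F)) ⊓ C.UD (F := F) := ⟨hrc, hrU⟩
  rw [h, Subgroup.mem_bot] at hr1
  have h4 := congrArg (fun g : C.Dm F =>
    ((C.gd g : GL (Fin N) F) : Matrix (Fin N) (Fin N) F) (π a) (π b)) hr1
  simp only [gd_one, Units.val_one] at h4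
  rw [Matrix.one_apply_ne (ne_of_lt hlt)] at h4
  have h5 : ((C.gd r : GL (Fin N) F) : Matrix (Fin N) (Fin N) F) (π a) (π b) = 1 := by
    show ((xS (RingHom.id F) (π a) (π b) (ne_of_lt hlt) 1 : GL (Fin N) F) :
      Matrix (Fin N) (Fin N) F) (π a) (π b) = 1
    exact xS_apply_self _ _ _ _ (ne_rev C _) h1'.symm 1
  rw [h5] at h4
  exact one_ne_zero h4

/-- a monomial element `n` with `n U n⁻¹ ∩ U = 1` has an opposite permutation -/
theorem isOpp_of_inf {n : C.Dm F} {π : Equiv.Perm (Fin N)}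
    (hπ : IsMono ((C.gd n : GL (Fin N) F) : Matrix (Fin N) (Fin N) F) π)
    (h : cj n (C.UD (F := F)) ⊓ C.UD (F := F) = ⊥) : C.IsOpp π := by
  intro i j hij hlt
  have hN := C.hN
  have hv : ∀ x : Fin N, ((x.rev : Fin N) : ℕ) = N - (x + 1) := fun x => Fin.val_rev x
  by_cases hji : i = j.rev
  · -- the mirror pair
    have hj : j = i.rev := by rw [hji, Fin.rev_rev]
    have hπj : π j = (π i).rev := by rw [hj, perm_rev C hπ]
    by_cases hp : π i = C.p1
    · exact ⟨hp, by rw [hπj, hp]⟩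
    · exfalso
      -- `π i` lies strictly before the middle
      have hlt' : π i < (π i).rev := by rw [← hπj]; exact hlt
      have hc : ((π i : Fin N) : ℕ) < C.κ + 1 := by
        have h1 := Fin.lt_def.1 hlt'
        rw [hv] at h1
        have h2 : ((π i : Fin N) : ℕ) ≠ C.κ + 1 := fun e => hp (Fin.ext e)
        omega
      have hi : (i : ℕ) ≤ C.κ + 1 := by
        have h1 := Fin.lt_def.1 hij
        rw [hj, hv] at h1
        omega
      set b : Fin N := π⁻¹ C.p1 with hb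
      have hπb : π b = C.p1 := by rw [hb]; simp
      have hπbr : π b.rev = C.p1.rev := by rw [perm_rev C hπ, hπb]
      have hbi : b ≠ i := fun e => hp (by rw [← e, hπb])
      have hbi' : b ≠ i.rev := by
        intro e
        have h1 : π i.rev = C.p1 := by rw [← e, hπb]
        rw [perm_rev C hπ] at h1
        have h2 := congrArg Fin.val h1
        rw [hv, C.p1_val] at h2
        omega
      have hlt1 : π i < π b := by
        rw [hπb, Fin.lt_def, C.p1_val]
        exact hc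
      have hlt2 : π i < π b.rev := by
        rw [hπbr, Fin.lt_def, C.p1_rev_val]
        omega
      rcases lt_or_gt_of_ne hbi with hlt3 | hlt3
      · rcases lt_or_gt_of_ne (show b.rev ≠ i from fun e => hbi' (by rw [← e, Fin.rev_rev]))
          with hlt4 | hlt4
        · -- both `b` and its mirror lie before `i`
          have h3 := Fin.lt_def.1 hlt3
          have h4 := Fin.lt_def.1 hlt4
          rw [hv] at h4
          omega
        · exact not_lt_short C hπ h i b.rev hlt4 (by rw [Fin.rev_rev]; exact hbi.symm) hlt2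
      · exact not_lt_short C hπ h i b hlt3 (fun e => hbi' (by rw [e, Fin.rev_rev])) hlt1
  · exact absurd hlt (not_lt_short C hπ h i j hij hji)

/-- a monomial element `n` with `n U n⁻¹ ∩ U = 1` conjugates `U` onto `V` -/
theorem cj_UD_eq_VD_of_inf (n0 : C.Dm F) (hUV : cj n0 (C.UD (F := F)) = C.VD)
    {n : C.Dm F} {π : Equiv.Perm (Fin N)}
    (hπ : IsMono ((C.gd n : GL (Fin N) F) : Matrix (Fin N) (Fin N) F) π)
    (h : cj n (C.UD (F := F)) ⊓ C.UD (F := F) = ⊥) : cj n (C.UD (F := F)) = C.VD := by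
  have h' : cj n⁻¹ (C.UD (F := F)) ⊓ C.UD (F := F) = ⊥ := by
    have e : cj n⁻¹ (C.UD (F := F)) ⊓ C.UD (F := F)
        = cj n⁻¹ (C.UD (F := F) ⊓ cj n (C.UD (F := F))) := by
      rw [cj_inf, cj_inv_cj, inf_comm]
    rw [e, inf_comm, h, cj_bot]
  have hπ' : IsMono ((C.gd n⁻¹ : GL (Fin N) F) : Matrix (Fin N) (Fin N) F) π⁻¹ := by
    rw [C.gd_inv]
    exact hπ.inv
  have hopp := isOpp_of_inf C hπ' h'
  have hle : cj n (C.UD (F := F)) ≤ C.VD := by
    intro x hx
    rw [mem_cj] at hx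
    rw [C.mem_VD]
    have h1 := C.conj_UU_mem_VV (n := ((n⁻¹ : C.Dm F) : SUm N F (RingHom.id F))) hπ' hopp
      (n⁻¹ * x * n).2 hx
    have e : ((n⁻¹ : C.Dm F) : SUm N F (RingHom.id F))⁻¹
        * ((n⁻¹ * x * n : C.Dm F) : SUm N F (RingHom.id F))
        * ((n⁻¹ : C.Dm F) : SUm N F (RingHom.id F)) = (x : SUm N F (RingHom.id F)) := by
      push_cast
      group
    rwa [e] at h1
  have hcard : Nat.card ↥(cj n (C.UD (F := F))) = Nat.card ↥(C.VD (F := F)) := by
    rw [card_cj, ← hUV, card_cj]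
  exact Subgroup.eq_of_le_of_card_ge hle (le_of_eq hcard.symm)

/-- a conjugate of `U` meeting `B` trivially is a conjugate of `V` under `B` -/
theorem hopp (n0 : C.Dm F) (hUV : cj n0 (C.UD (F := F)) = C.VD) (g : C.Dm F)
    (hg : cj g (C.UD (F := F)) ⊓ (C.bn (F := F)).B = ⊥) :
    ∃ b ∈ (C.bn (F := F)).B, cj g (C.UD (F := F)) = cj b (C.VD (F := F)) := by
  obtain ⟨n, hn⟩ := exists_N_mem_D (C.bn (F := F)) g
  rw [mem_D] at hn
  obtain ⟨b1, hb1, b2, hb2, rfl⟩ := hn
  have hnorm : ∀ b ∈ (C.bn (F := F)).B, cj b (C.UD (F := F)) = C.UD := by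
    intro b hb
    apply cj_of_mem_normalizer
    rw [normalizer_UD]
    exact hb
  have e : cj (b1 * (n : C.Dm F) * b2) (C.UD (F := F))
      = cj b1 (cj (n : C.Dm F) (C.UD (F := F))) := by
    rw [cj_mul, ← cj_mul (b1 * (n : C.Dm F)) b2, hnorm b2 hb2]
  rw [e] at hg
  have hB1 : cj b1 (C.bn (F := F)).B = (C.bn (F := F)).B :=
    cj_of_mem_normalizer (Subgroup.le_normalizer hb1)
  have h1 : cj (n : C.Dm F) (C.UD (F := F)) ⊓ (C.bn (F := F)).B = ⊥ := by
    apply eq_bot_of_cj_eq_bot (g := b1)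
    rw [cj_inf, hB1]
    exact hg
  have h2 : cj (n : C.Dm F) (C.UD (F := F)) ⊓ C.UD (F := F) = ⊥ := by
    rw [eq_bot_iff, ← h1]
    exact inf_le_inf_left _ (by rw [C.bn_B]; exact C.UD_le_BD)
  have hnN : (n : C.Dm F) ∈ C.ND (F := F) := n.2
  obtain ⟨π, hπ⟩ := C.exists_mono_of_mem_ND hnN
  refine ⟨b1, hb1, ?_⟩
  rw [e, cj_UD_eq_VD_of_inf C n0 hUV hπ h2]

end Cfsg.Agent.Lib.Helper8.AutDm
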