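import Cfsg.Agent.Lib.Helper8.AutDm.FactsB
import Cfsg.Agent.Lib.Helper5.AutSU.Facts3
import Mathlib

/-!
# `Ω⁺_{2κ+4}(F)`: the minimal parabolic subgroups (helper8)

The block upper triangular subgroup `QD j` of the model is the minimal parabolic subgroup of the
chain node `j`; hence `YC j` is its intersection with the lower unitriangular group.  The fork
node is transported by the graph automorphism.
-/

set_option autoImplicit false

namespace Cfsg.Agent.Lib.Helper8.AutDm

open Matrix Cfsg Cfsg.Agent.Lib.Helper5.GLBN Cfsg.Agent.Lib.Helper8.SpBN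
open Cfsg.Agent.Lib.Helper8.Tw Cfsg.Agent.PSUT
open Cfsg.Agent.Lib.Helper5.AutBN Cfsg.Agent.Lib.Helper8.AutSp Cfsg.Agent.Lib.Helper5.AutSU
open Cfsg.Agent.Lib.Helper5.AutDO Cfsg.Agent.Lib.Helper5.BN
open scoped MatrixGroups

variable {N : ℕ} {F : Type*} [Field F] [Fintype F] (C : DC N)

/-- the block upper triangular subgroup of a chain node, in the model -/
noncomputable def QD (j : ℕ) : Subgroup (C.Dm F) := (QQ N F (RingHom.id F) j).subgroupOf C.GD

theorem mem_QD {j : ℕ} {g : C.Dm F} :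
    g ∈ QD C j ↔ (g : SUm N F (RingHom.id F)) ∈ QQ N F (RingHom.id F) j := Iff.rfl

theorem BD_le_QD (j : ℕ) : C.BD (F := F) ≤ QD C j := fun _ hg => BB_le_QQ j hg

theorem YC_eq_QD (j : ℕ) : C.YC (F := F) j = QD C j ⊓ C.VD := Subgroup.ext fun _ => Iff.rfl

/-- a representative of a reflection lies in the block upper triangular subgroup of a chain
node only if it belongs to that node -/
theorem nD_mem_QD_iff (i : Fin (C.κ + 2)) {j : ℕ} (hj : j ≤ C.κ) :
    (C.nD i : C.Dm F) ∈ QD C j ↔ (i : ℕ) = j := by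
  have hN := C.hN
  have hi2 := i.2
  have hm := C.isMono_nD (F := F) i
  rw [mem_QD, mem_QQ (by omega)]
  constructor
  · intro h
    by_contra hij
    by_cases hi : (i : ℕ) ≤ C.κ
    · rw [C.rhoD_le _ hi] at hm
      obtain ⟨b, hb1, hb2⟩ := not_blk_rho (N := N) (i := i) (j := j) (by omega) (by omega) hij
      exact hm.apply_ne_zero b (h (rho N i b) b hb1 hb2)
    · rw [C.rhoD_fork _ hi] at hm
      have hv := C.rhoF_val ⟨C.κ, by omega⟩
      rw [if_pos rfl] at hv
      refine hm.apply_ne_zero ⟨C.κ, by omega⟩ (h _ _ ?_ ?_)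
      · rw [Fin.lt_def, hv]
        simp
      · rw [hv]
        unfold blk
        simp only
        omega
  · intro hij a b _ hn
    have hi : (i : ℕ) ≤ C.κ := by omega
    rw [C.rhoD_le _ hi] at hm
    apply hm
    rintro rfl
    apply hn
    rw [← hij]
    exact blk_rho_self (by omega) b

/-- the block upper triangular subgroups are the minimal parabolic subgroups -/
theorem QD_eq_parabolic {j : ℕ} (hj : j ≤ C.κ) :
    QD C j = (C.bn (F := F)).parabolic {C.nC j hj} := by
  have h := eq_parabolic_of_le (C.bn (F := F)) (QD C j) (BD_le_QD C j)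
  have e : {s | s ∈ (C.bn (F := F)).S ∧ s ∈ QD C j} = ({C.nC j hj} : Set (C.Dm F)) := by
    ext s
    rw [C.bn_S]
    constructor
    · rintro ⟨⟨i, rfl⟩, hs⟩
      have hi := (nD_mem_QD_iff C i hj).1 hs
      rw [Set.mem_singleton_iff, C.nD_le i (by omega)]
      congr 1
    · intro hs
      rw [Set.mem_singleton_iff] at hs
      rw [hs]
      have hi2 : j < C.κ + 2 := by omega
      have e1 : (C.nD ⟨j, hi2⟩ : C.Dm F) = C.nC j hj := C.nD_le ⟨j, hi2⟩ hj
      refine ⟨⟨⟨j, hi2⟩, e1⟩, ?_⟩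
      rw [← e1]
      exact (nD_mem_QD_iff C ⟨j, hi2⟩ hj).2 rfl
  rw [e] at h
  exact h

/-- the negative root subgroup of a chain node -/
theorem YC_eq {j : ℕ} (hj : j ≤ C.κ) :
    C.YC (F := F) j = (C.bn (F := F)).parabolic {C.nC j hj} ⊓ C.VD := by
  rw [← QD_eq_parabolic C hj]
  exact YC_eq_QD C j

theorem map_GamD_BD : (C.BD (F := F)).map (C.GamD (F := F)).toMonoidHom = C.BD := by
  apply le_antisymm
  · rintro _ ⟨b, hb, rfl⟩
    exact C.GamD_mem_BD hb
  · intro b hb
    exact ⟨C.GamD b, C.GamD_mem_BD hb, C.GamD_GamD b⟩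

theorem map_GamD_VD : (C.VD (F := F)).map (C.GamD (F := F)).toMonoidHom = C.VD := by
  apply le_antisymm
  · rintro _ ⟨b, hb, rfl⟩
    exact C.GamD_mem_VD hb
  · intro b hb
    exact ⟨C.GamD b, C.GamD_mem_VD hb, C.GamD_GamD b⟩

theorem map_GamD_UD : (C.UD (F := F)).map (C.GamD (F := F)).toMonoidHom = C.UD := by
  apply le_antisymm
  · rintro _ ⟨b, hb, rfl⟩
    exact C.GamD_mem_UD hb
  · intro b hb
    exact ⟨C.GamD b, C.GamD_mem_UD hb, C.GamD_GamD b⟩

/-- the negative root subgroup of the fork node -/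
theorem YF_eq : C.YF (F := F) = (C.bn (F := F)).parabolic {C.nFD} ⊓ C.VD := by
  unfold DC.YF
  rw [YC_eq C le_rfl, Subgroup.map_inf _ _ _ (C.GamD (F := F)).injective, map_GamD_VD]
  congr 1
  unfold BNPair.parabolic
  rw [Subgroup.map_sup, MonoidHom.map_closure, Set.image_singleton, C.bn_B, map_GamD_BD]
  rfl

/-- **the negative fundamental root subgroups are the intersections of the minimal parabolic
subgroups with the lower unitriangular group** -/
theorem YD_eq (i : Fin (C.κ + 2)) :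
    C.YD (F := F) i = (C.bn (F := F)).parabolic {C.nD i} ⊓ C.VD := by
  by_cases h : (i : ℕ) ≤ C.κ
  · rw [C.YD_le i h, C.nD_le i h]
    exact YC_eq C h
  · rw [C.YD_fork i h, C.nD_fork i h]
    exact YF_eq C

end Cfsg.Agent.Lib.Helper8.AutDm
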