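import Cfsg.Agent.Lib.Helper8.AutDm.FactsC
import Cfsg.Agent.Lib.Helper5.AutSU.Facts5
import Mathlib

/-!
# `Ω⁺_{2κ+4}(F)`: the commutation of the fundamental root subgroups (helper8)

Positive and negative fundamental root subgroups of distinct nodes commute.
-/

set_option autoImplicit false

namespace Cfsg.Agent.Lib.Helper8.AutDm

open Matrix Cfsg Cfsg.Agent.Lib.Helper5.GLBN Cfsg.Agent.Lib.Helper8.SpBN
open Cfsg.Agent.Lib.Helper8.Tw Cfsg.Agent.PSUT
open Cfsg.Agent.Lib.Helper5.AutBN Cfsg.Agent.Lib.Helper8.AutSp Cfsg.Agent.Lib.Helper5.AutSU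
open Cfsg.Agent.Lib.Helper5.AutDO Cfsg.Agent.Lib.Helper5.BN
open scoped MatrixGroups

variable {N : ℕ} {F : Type*} [Field F] [Fintype F] (C : DC N)

/-- the coordinate `j` -/
def px (j : ℕ) (hj : j < N) : Fin N := ⟨j, hj⟩

/-- the matrix of an element of the model -/
def gm (g : C.Dm F) : Matrix (Fin N) (Fin N) F := ((C.gd g : GL (Fin N) F) : Matrix (Fin N) (Fin N) F)

theorem gm_mul (g h : C.Dm F) : gm C (g * h) = gm C g * gm C h := by
  unfold gm
  rw [C.gd_mul, Units.val_mul]

theorem gm_injective : Function.Injective (gm C (F := F)) := by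
  intro g h e
  exact gd_injective C (Units.ext e)

theorem gm_one : gm C (1 : C.Dm F) = 1 := by
  unfold gm
  rw [gd_one, Units.val_one]

theorem gm_xC {j : ℕ} (hj : j ≤ C.κ) (t : F) :
    gm C (C.xC j hj t) = 1 + eS (px j (by have := C.hN; omega)) (px (j + 1) (by have := C.hN; omega)) t := by
  have hN := C.hN
  show ((xS (RingHom.id F) (⟨j, by omega⟩ : Fin N) ⟨j + 1, by omega⟩ (fin_ne (by simp)) t :
    GL (Fin N) F) : Matrix (Fin N) (Fin N) F) = _
  rw [xS_coe_eq _ _ _ (fin_ne (by rw [val_rev_mk]; simp only; omega))]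
  rfl

theorem gm_yC {j : ℕ} (hj : j ≤ C.κ) (t : F) :
    gm C (C.yC j hj t) = 1 + eS (px (j + 1) (by have := C.hN; omega)) (px j (by have := C.hN; omega)) t := by
  have hN := C.hN
  show ((xS (RingHom.id F) (⟨j + 1, by omega⟩ : Fin N) ⟨j, by omega⟩ (fin_ne (by simp)) t :
    GL (Fin N) F) : Matrix (Fin N) (Fin N) F) = _
  rw [xS_coe_eq _ _ _ (fin_ne (by rw [val_rev_mk]; simp only; omega))]
  rfl

theorem gm_GamD (g : C.Dm F) (a b : Fin N) : gm C (C.GamD g) a b = gm C g (C.tau a) (C.tau b) :=
  C.Gam_apply g.1 a b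

/-- the graph automorphism on the elements `1 + eS a b c` -/
theorem gm_GamD_eS {g : C.Dm F} {a b : Fin N} {c : F} (h : gm C g = 1 + eS a b c) :
    gm C (C.GamD g) = 1 + eS (C.tau a) (C.tau b) c := by
  ext i k
  rw [gm_GamD, h]
  unfold eS
  have e1 : (C.tau i = C.tau k) = (i = k) := propext C.tau.injective.eq_iff
  have e2 : ∀ x y : Fin N, (x = C.tau y) = (C.tau x = y) := by
    intro x y
    apply propext
    constructor
    · intro e
      rw [e, C.tau_tau]
    · intro e
      rw [← e, C.tau_tau]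
  simp only [Matrix.add_apply, Matrix.sub_apply, Matrix.one_apply, Matrix.single_apply, e1, e2,
    ← C.tau_rev]

/-- root elements of mirror positions commute -/
theorem eS_comm_mirror (a b : Fin N) (hab : a ≠ b) (hab' : a ≠ b.rev) (hb : b ≠ b.rev)
    (s t : F) : eS a b s * eS b.rev a t = eS b.rev a t * eS a b s := by
  unfold eS
  have h1 : b ≠ a.rev := fun e => hab' (by rw [e, Fin.rev_rev])
  have h2 : a.rev ≠ b.rev := fun e => hab (Fin.rev_injective e)
  rw [Fin.rev_rev, Matrix.sub_mul, Matrix.mul_sub, Matrix.mul_sub, Matrix.sub_mul, Matrix.mul_sub,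
    Matrix.mul_sub,
    Matrix.single_mul_single_of_ne _ _ _ _ hb, Matrix.single_mul_single_of_ne _ _ _ _ h1,
    Matrix.single_mul_single_of_ne _ _ _ _ h2, Matrix.single_mul_single_same,
    Matrix.single_mul_single_same, Matrix.single_mul_single_of_ne _ _ _ _ hab',
    Matrix.single_mul_single_of_ne _ _ _ _ hab.symm, Matrix.single_mul_single_of_ne _ _ _ _ hb,
    mul_comm t s]
  simp

theorem comm_of_eS {X Y e f : Matrix (Fin N) (Fin N) F} (hX : X = 1 + e) (hY : Y = 1 + f)
    (h : e * f = f * e) : X * Y = Y * X := by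
  rw [hX, hY]
  have e1 : (1 + e) * (1 + f) = 1 + e + f + e * f := by noncomm_ring
  have e2 : (1 + f) * (1 + e) = 1 + e + f + f * e := by noncomm_ring
  rw [e1, e2, h]

/-- chain nodes: positive and negative root subgroups of distinct nodes commute -/
theorem comm_XC_YC {i j : ℕ} (hi : i ≤ C.κ) (hj : j ≤ C.κ) (hij : i ≠ j) {x y : C.Dm F}
    (hx : x ∈ C.XC i) (hy : y ∈ C.YC j) : x * y = y * x := by
  have hN := C.hN
  have hi2 : 2 * i + 2 ≤ N := by omega
  have hj2 : 2 * j + 2 ≤ N := by omega
  obtain ⟨hx1, hx2⟩ := (mem_Xp hi2).1 (C.mem_XC.1 hx)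
  obtain ⟨hy1, hy2⟩ := (mem_Xm hj2).1 (C.mem_YC.1 hy)
  apply gm_injective C
  rw [gm_mul, gm_mul]
  exact up_lo_comm hi2 hj2 hij hx1 hx2 hy1 hy2

theorem GamD_fix_XC {j : ℕ} (hj : j < C.κ) {x : C.Dm F} (hx : x ∈ C.XC j) : C.GamD x = x :=
  Subtype.ext (C.Gam_fix_Xp hj (C.mem_XC.1 hx))

theorem GamD_fix_YC {j : ℕ} (hj : j < C.κ) {x : C.Dm F} (hx : x ∈ C.YC j) : C.GamD x = x :=
  Subtype.ext (C.Gam_fix_Xm hj (C.mem_YC.1 hx))

/-- **positive and negative fundamental root subgroups of distinct nodes commute** -/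
theorem hcomm (i j : Fin (C.κ + 2)) (hij : i ≠ j) {x y : C.Dm F}
    (hx : x ∈ C.XD (F := F) i) (hy : y ∈ C.YD (F := F) j) : x * y = y * x := by
  have hN := C.hN
  have hi2 := i.2
  have hj2 := j.2
  have hij' : (i : ℕ) ≠ j := fun e => hij (Fin.ext e)
  by_cases hi : (i : ℕ) ≤ C.κ
  · rw [C.XD_le i hi] at hx
    by_cases hj : (j : ℕ) ≤ C.κ
    · rw [C.YD_le j hj] at hy
      exact comm_XC_YC C hi hj hij' hx hy
    · rw [C.YD_fork j hj] at hy
      have hy' := C.mem_YF.1 hy
      by_cases hik : (i : ℕ) < C.κ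
      · have h := comm_XC_YC C hi le_rfl (ne_of_lt hik) hx hy'
        have h' := congrArg (C.GamD (F := F)) h
        rw [map_mul, map_mul, C.GamD_GamD, GamD_fix_XC C hik hx] at h'
        exact h'
      · have hik' : (i : ℕ) = C.κ := by omega
        rw [hik'] at hx
        obtain ⟨s, rfl⟩ := (C.mem_XC_iff le_rfl).1 hx
        obtain ⟨t, ht⟩ := (C.mem_YC_iff le_rfl).1 hy'
        have hy2 : gm C y = 1 + eS (C.tau (px (C.κ + 1) (by omega))) (C.tau (px C.κ (by omega))) t := by
          have := gm_GamD_eS C (ht ▸ gm_yC C le_rfl t)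
          rwa [C.GamD_GamD] at this
        apply gm_injective C
        rw [gm_mul, gm_mul]
        apply comm_of_eS (gm_xC C le_rfl s) hy2
        have e1 : C.tau (px (C.κ + 1) (by omega)) = (px (C.κ + 1) (by omega) : Fin N).rev := by
          apply Fin.ext
          rw [C.tau_val, Fin.val_rev]
          unfold px
          simp only
          rw [if_pos trivial]
          omega
        have e2 : C.tau (px C.κ (by omega)) = px C.κ (by omega) :=
          C.tau_fix _ (by unfold px; simp) (by unfold px; simp)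
        rw [e1, e2]
        apply eS_comm_mirror
        · exact fin_ne (by unfold px; simp)
        · apply fin_ne
          rw [Fin.val_rev]
          unfold px
          simp only
          omega
        · apply fin_ne
          rw [Fin.val_rev]
          unfold px
          simp only
          omega
  · rw [C.XD_fork i hi] at hx
    have hj : (j : ℕ) ≤ C.κ := by omega
    rw [C.YD_le j hj] at hy
    have hx' := C.mem_XF.1 hx
    by_cases hjk : (j : ℕ) < C.κ
    · have h := comm_XC_YC C le_rfl hj (ne_of_gt hjk) hx' hy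
      have h' := congrArg (C.GamD (F := F)) h
      rw [map_mul, map_mul, C.GamD_GamD, GamD_fix_YC C hjk hy] at h'
      exact h'
    · have hjk' : (j : ℕ) = C.κ := by omega
      rw [hjk'] at hy
      obtain ⟨t, rfl⟩ := (C.mem_YC_iff le_rfl).1 hy
      obtain ⟨s, hs⟩ := (C.mem_XC_iff le_rfl).1 hx'
      have hx2 : gm C x = 1 + eS (C.tau (px C.κ (by omega))) (C.tau (px (C.κ + 1) (by omega))) s := by
        have := gm_GamD_eS C (hs ▸ gm_xC C le_rfl s)
        rwa [C.GamD_GamD] at this
      apply gm_injective C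
      rw [gm_mul, gm_mul]
      have e1 : C.tau (px (C.κ + 1) (by omega)) = (px (C.κ + 1) (by omega) : Fin N).rev := by
        apply Fin.ext
        rw [C.tau_val, Fin.val_rev]
        unfold px
        simp only
        rw [if_pos trivial]
        omega
      have e2 : C.tau (px C.κ (by omega)) = px C.κ (by omega) :=
        C.tau_fix _ (by unfold px; simp) (by unfold px; simp)
      have e3 : (px (C.κ + 1) (by omega) : Fin N)
          = ((px (C.κ + 1) (by omega) : Fin N).rev).rev := (Fin.rev_rev _).symm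
      rw [e1, e2] at hx2
      have hy2 := gm_yC C (le_refl C.κ) t
      rw [e3] at hy2
      apply comm_of_eS hx2 hy2
      apply eS_comm_mirror
      · apply fin_ne
        rw [Fin.val_rev]
        unfold px
        simp only
        omega
      · rw [Fin.rev_rev]
        exact fin_ne (by unfold px; simp)
      · rw [Fin.rev_rev]
        apply fin_ne
        rw [Fin.val_rev]
        unfold px
        simp only
        omega

end Cfsg.Agent.Lib.Helper8.AutDm
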