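import Cfsg.Agent.Lib.Helper8.AutDm.FactsE
import Mathlib

/-!
# `Ω⁺_{2κ+4}(F)`: opposite root subgroups do not commute modulo the centre (helper8)
-/

set_option autoImplicit false

namespace Cfsg.Agent.Lib.Helper8.AutDm

open Matrix Cfsg Cfsg.Agent.Lib.Helper5.GLBN Cfsg.Agent.Lib.Helper8.SpBN
open Cfsg.Agent.Lib.Helper8.Tw Cfsg.Agent.PSUT
open Cfsg.Agent.Lib.Helper5.AutBN Cfsg.Agent.Lib.Helper8.AutSp Cfsg.Agent.Lib.Helper5.AutSU
open Cfsg.Agent.Lib.Helper5.AutDO Cfsg.Agent.Lib.Helper5.BN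
open scoped MatrixGroups

variable {N : ℕ} {F : Type*} [Field F] [Fintype F] (C : DC N)

theorem GamD_mem_center {z : C.Dm F} (hz : z ∈ Subgroup.center (C.Dm F)) :
    C.GamD z ∈ Subgroup.center (C.Dm F) := by
  rw [Subgroup.mem_center_iff]
  intro g
  have e : g = C.GamD (C.GamD g) := (C.GamD_GamD g).symm
  rw [e, ← map_mul, ← map_mul, Subgroup.mem_center_iff.1 hz]

/-- chain nodes: opposite root elements do not commute modulo the centre -/
theorem ncenter_chain {j : ℕ} (hj : j ≤ C.κ) :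
    (C.xC j hj (1 : F) * C.yC j hj 1) * (C.yC j hj 1 * C.xC j hj 1)⁻¹
      ∉ Subgroup.center (C.Dm F) := by
  have hN := C.hN
  intro hz
  obtain ⟨c, hc⟩ := center_scalar C hz
  have e : C.xC j hj (1 : F) * C.yC j hj 1
      = ((C.xC j hj (1 : F) * C.yC j hj 1) * (C.yC j hj 1 * C.xC j hj 1)⁻¹)
        * (C.yC j hj 1 * C.xC j hj 1) := by group
  have e' := congrArg (gm C) e
  rw [gm_mul, gm_mul _ (_ * _ * _⁻¹), hc, gm_mul, gm_xC, gm_yC] at e'
  exact opp_ne_scalar _ _ (px_ne _ _ _ _ (by omega)) (px_ne_rev _ _ _ _ (by omega))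
    (px_ne_rev _ _ _ _ (by omega)) c e'

/-- the fork node: opposite root elements do not commute modulo the centre -/
theorem ncenter_fork :
    (C.GamD (C.xC C.κ le_rfl (1 : F)) * C.GamD (C.yC C.κ le_rfl 1))
      * (C.GamD (C.yC C.κ le_rfl 1) * C.GamD (C.xC C.κ le_rfl 1))⁻¹
      ∉ Subgroup.center (C.Dm F) := by
  intro hz
  apply ncenter_chain C (le_refl C.κ) (F := F)
  have := GamD_mem_center C hz
  rw [map_mul, map_inv, map_mul, map_mul, C.GamD_GamD, C.GamD_GamD] at this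
  exact this

/-- **opposite fundamental root subgroups do not commute modulo the centre** -/
theorem hncomm {Q : Type*} [Group Q] (f : C.Dm F →* Q)
    (hker : f.ker ≤ Subgroup.center (C.Dm F)) (i : Fin (C.κ + 2)) :
    ∃ x ∈ C.XD (F := F) i, ∃ y ∈ C.YD (F := F) i, f (x * y) ≠ f (y * x) := by
  by_cases hi : (i : ℕ) ≤ C.κ
  · rw [C.XD_le i hi, C.YD_le i hi]
    refine ⟨C.xC i hi 1, (C.mem_XC_iff hi).2 ⟨1, rfl⟩, C.yC i hi 1, (C.mem_YC_iff hi).2 ⟨1, rfl⟩,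
      ?_⟩
    intro h
    apply ncenter_chain C hi (F := F)
    apply hker
    rw [MonoidHom.mem_ker, map_mul, map_inv, h, mul_inv_cancel]
  · rw [C.XD_fork i hi, C.YD_fork i hi]
    refine ⟨C.GamD (C.xC C.κ le_rfl 1), ?_, C.GamD (C.yC C.κ le_rfl 1), ?_, ?_⟩
    · rw [C.mem_XF, C.GamD_GamD]
      exact (C.mem_XC_iff le_rfl).2 ⟨1, rfl⟩
    · rw [C.mem_YF, C.GamD_GamD]
      exact (C.mem_YC_iff le_rfl).2 ⟨1, rfl⟩
    · intro h
      apply ncenter_fork C (F := F)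
      apply hker
      rw [MonoidHom.mem_ker, map_mul, map_inv, h, mul_inv_cancel]

theorem UD_inf_center' : C.UD (F := F) ⊓ Subgroup.center (C.Dm F) = ⊥ := by
  obtain ⟨n0, -, -, hUV, -, -, -⟩ := C.exists_n0 (F := F)
  exact UD_inf_center C n0 hUV

theorem UD_inf_ker {Q : Type*} [Group Q] (f : C.Dm F →* Q)
    (hker : f.ker ≤ Subgroup.center (C.Dm F)) : C.UD (F := F) ⊓ f.ker = ⊥ := by
  rw [eq_bot_iff, ← UD_inf_center' C]
  exact inf_le_inf_left _ hker

/-- the central quotient is injective on `U` -/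
theorem f_inj_UD {Q : Type*} [Group Q] (f : C.Dm F →* Q)
    (hker : f.ker ≤ Subgroup.center (C.Dm F)) {u u' : C.Dm F} (hu : u ∈ C.UD (F := F))
    (hu' : u' ∈ C.UD (F := F)) (h : f u = f u') : u = u' := by
  have h0 : u⁻¹ * u' ∈ f.ker := by
    rw [MonoidHom.mem_ker, map_mul, map_inv, h, inv_mul_cancel]
  have h1 : u⁻¹ * u' ∈ C.UD (F := F) ⊓ f.ker :=
    Subgroup.mem_inf.2 ⟨mul_mem (inv_mem hu) hu', h0⟩
  rw [UD_inf_ker C f hker, Subgroup.mem_bot] at h1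
  exact (inv_mul_eq_one.1 h1)

end Cfsg.Agent.Lib.Helper8.AutDm
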