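import Cfsg.Agent.Lib.Helper8.AutDm.NormalFormB
import Cfsg.Agent.Lib.Helper5.AutDO.Comm1
import Cfsg.Agent.Lib.Lead.AutPO.DMain
import Cfsg.Agent.Lib.Lead.AutPO.DG0
import Mathlib

/-!
# `Ω⁺_{2κ+4}(F)`, `κ ≥ 3`: every automorphism of the central quotient of the model is standard
(helper8)

The normal form (`dm_normal_form`) and lead's model theorem (`DCtx.model_aut`) together: every
automorphism of the central quotient of the model is the composite of an inner automorphism,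
possibly the graph automorphism, and a standard automorphism `g ↦ d ψ(g) d⁻¹`, `d` a diagonal
similitude.
-/

set_option autoImplicit false

namespace Cfsg.Agent.Lib.Helper8.AutDm

open Matrix Cfsg Cfsg.Agent.Lib.Helper5.GLBN Cfsg.Agent.Lib.Helper8.SpBN
open Cfsg.Agent.Lib.Helper8.Tw Cfsg.Agent.PSUT Cfsg.Agent.AutPSU
open Cfsg.Agent.Lib.Helper5.AutBN Cfsg.Agent.Lib.Helper8.AutSp Cfsg.Agent.Lib.Helper5.AutSU
open Cfsg.Agent.Lib.Helper5.AutDO Cfsg.Agent.Lib.Helper5.BN Cfsg.Agent.AutPO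
open scoped MatrixGroups

variable {N : ℕ} {F : Type*} [Field F] [Fintype F] (C : DC N)

/-- the standard automorphisms preserve the model -/
theorem PhiS_mem_GD (ψ : F ≃+* F) (d : Fin N → Fˣ) (μ : Fˣ)
    (hd : ∀ i, (d i : F) * (RingHom.id F) (d i.rev) = μ) {g : SUm N F (RingHom.id F)}
    (hg : g ∈ C.GD (F := F)) : PhiS ψ (idComm ψ) d μ hd g ∈ C.GD (F := F) := by
  rw [C.GD_eq_G0D] at hg ⊢
  exact PhiS_mem_G0D C.κ C.hN ψ d μ hd g hg

/-- the standard automorphisms of the model -/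
noncomputable def PhiD (ψ : F ≃+* F) (d : Fin N → Fˣ) (μ : Fˣ)
    (hd : ∀ i, (d i : F) * (RingHom.id F) (d i.rev) = μ) : C.Dm F →* C.Dm F where
  toFun g := ⟨PhiS ψ (idComm ψ) d μ hd g.1, PhiS_mem_GD C ψ d μ hd g.2⟩
  map_one' := Subtype.ext (map_one _)
  map_mul' a b := Subtype.ext (map_mul _ _ _)

theorem PhiD_coe (ψ : F ≃+* F) (d : Fin N → Fˣ) (μ : Fˣ)
    (hd : ∀ i, (d i : F) * (RingHom.id F) (d i.rev) = μ) (g : C.Dm F) :
    ((PhiD C ψ d μ hd g : C.Dm F) : SUm N F (RingHom.id F)) = PhiS ψ (idComm ψ) d μ hd g.1 := rfl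

variable {Q : Type*} [Group Q]

/-- lead's context of the model -/
noncomputable def dctx (f : C.Dm F →* Q) (hf : Function.Surjective f)
    (hker : f.ker = Subgroup.center (C.Dm F)) : DCtx N F Q where
  κ := C.κ
  hN := C.hN
  G0 := C.GD
  f := f
  hf := hf
  hker := hker
  hZ := fun g hg => center_scalar C hg
  hS := fun j hj x => C.sO_mem_GD (by have := C.hN; omega) x
  hF := C.fO_mem_GD

theorem dctx_PhiSInv (f : C.Dm F →* Q) (hf : Function.Surjective f)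
    (hker : f.ker = Subgroup.center (C.Dm F)) : (dctx C f hf hker).PhiSInv := by
  intro ψ d μ hd g hg
  exact PhiS_mem_GD C ψ d μ hd hg

theorem sN_eq_xC (f : C.Dm F →* Q) (hf : Function.Surjective f)
    (hker : f.ker = Subgroup.center (C.Dm F)) (j : ℕ) (hj : 2 * j + 4 ≤ N) (t : F) :
    (dctx C f hf hker).sN j hj (upT t) = C.xC j (by have := C.hN; omega) t :=
  Subtype.ext (xpS_eq_sO j hj t).symm

theorem sN_eq_yC (f : C.Dm F →* Q) (hf : Function.Surjective f)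
    (hker : f.ker = Subgroup.center (C.Dm F)) (j : ℕ) (hj : 2 * j + 4 ≤ N) (t : F) :
    (dctx C f hf hker).sN j hj (loT t) = C.yC j (by have := C.hN; omega) t :=
  Subtype.ext (xmS_eq_sO j hj t).symm

theorem fN_eq_GamD (f : C.Dm F →* Q) (hf : Function.Surjective f)
    (hker : f.ker = Subgroup.center (C.Dm F)) (x : Matrix.SpecialLinearGroup (Fin 2) F) :
    (dctx C f hf hker).fN x = C.GamD ((dctx C f hf hker).sN C.κ (by have := C.hN; omega) x) :=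
  Subtype.ext (conj_rfl_sO C.κ C.hN x).symm

theorem dctx_gen (f : C.Dm F →* Q) (hf : Function.Surjective f)
    (hker : f.ker = Subgroup.center (C.Dm F)) (H : Subgroup ↥(dctx C f hf hker).G0)
    (h1 : ∀ i (hi : 2 * i + 4 ≤ N) t, (dctx C f hf hker).sN i hi (upT t) ∈ H ∧
      (dctx C f hf hker).sN i hi (loT t) ∈ H)
    (h2 : ∀ t, (dctx C f hf hker).fN (upT t) ∈ H ∧ (dctx C f hf hker).fN (loT t) ∈ H) :
    H = ⊤ := by
  rw [eq_top_iff]
  have key : G0D C.κ C.hN ≤ H.map (C.GD (F := F)).subtype := by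
    apply G0D_le
    · intro j hj t
      exact ⟨⟨_, (h1 j hj t).1, rfl⟩, ⟨_, (h1 j hj t).2, rfl⟩⟩
    · intro t
      exact ⟨⟨_, (h2 t).1, rfl⟩, ⟨_, (h2 t).2, rfl⟩⟩
  intro g _
  have hg : (g : SUm N F (RingHom.id F)) ∈ G0D C.κ C.hN := by
    rw [← C.GD_eq_G0D]
    exact g.2
  obtain ⟨h, hh, e⟩ := key hg
  have : h = g := Subtype.ext e
  rw [← this]
  exact hh

/-- **Every automorphism of the central quotient of the model of `Ω⁺_{2κ+4}(F)`, `κ ≥ 3`, is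
standard**: the composite of an inner automorphism, possibly the graph automorphism, and a
standard automorphism `g ↦ d ψ(g) d⁻¹`, `d` a diagonal similitude. -/
theorem dm_aut_standard (hκ : 3 ≤ C.κ) (p : ℕ) [Fact p.Prime] [CharP F p]
    (f : C.Dm F →* Q) (hf : Function.Surjective f)
    (hker : f.ker = Subgroup.center (C.Dm F)) (θ : Q ≃* Q) :
    ∃ (x : Q) (γ : Q ≃* Q),
      (γ = MulEquiv.refl Q ∨ γ = descend f hf hker (C.GamD (F := F))) ∧
      ∃ (ψ : F ≃+* F) (d : Fin N → Fˣ) (μ : Fˣ)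
        (hd : ∀ i, (d i : F) * (RingHom.id F) (d i.rev) = μ),
        ∀ g : C.Dm F, γ (MulAut.conj x⁻¹ (θ (f g))) = f (PhiD C ψ d μ hd g) := by
  obtain ⟨x, γ, hγ, -, -, -, hX, hY⟩ := dm_normal_form C hκ p f hf hker θ
  refine ⟨x, γ, hγ, ?_⟩
  have hN := C.hN
  set τ : Q ≃* Q := (θ.trans (MulAut.conj x⁻¹)).trans γ with hτ
  -- elementwise forms
  have elX : ∀ (i : Fin (C.κ + 2)) (y : C.Dm F), y ∈ C.XD (F := F) i →
      ∃ y' ∈ C.XD (F := F) i, τ (f y) = f y' := by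
    intro i y hy
    have h1 : τ (f y) ∈ ((C.XD (F := F) i).map f).map τ.toMonoidHom :=
      ⟨f y, Subgroup.mem_map_of_mem f hy, rfl⟩
    rw [hX i] at h1
    obtain ⟨y', hy', e⟩ := h1
    exact ⟨y', hy', e.symm⟩
  have elY : ∀ (i : Fin (C.κ + 2)) (y : C.Dm F), y ∈ C.YD (F := F) i →
      ∃ y' ∈ C.YD (F := F) i, τ (f y) = f y' := by
    intro i y hy
    have h1 : τ (f y) ∈ ((C.YD (F := F) i).map f).map τ.toMonoidHom :=
      ⟨f y, Subgroup.mem_map_of_mem f hy, rfl⟩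
    rw [hY i] at h1
    obtain ⟨y', hy', e⟩ := h1
    exact ⟨y', hy', e.symm⟩
  obtain ⟨ψ, d, μ, hd, hfin⟩ := (dctx C f hf hker).model_aut (by show 1 ≤ C.κ; omega)
    (dctx_PhiSInv C f hf hker) τ
    (by
      intro i hi u
      have hi' : i ≤ C.κ := by omega
      have hi2 : i < C.κ + 2 := by omega
      obtain ⟨y', hy', e⟩ := elX ⟨i, hi2⟩ (C.xC i hi' u)
        (by rw [C.XD_le ⟨i, hi2⟩ hi']; exact (C.mem_XC_iff hi').2 ⟨u, rfl⟩)
      rw [C.XD_le ⟨i, hi2⟩ hi'] at hy'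
      obtain ⟨v, rfl⟩ := (C.mem_XC_iff hi').1 hy'
      refine ⟨v, ?_⟩
      rw [sN_eq_xC, sN_eq_xC]
      exact e)
    (by
      intro i hi u
      have hi' : i ≤ C.κ := by omega
      have hi2 : i < C.κ + 2 := by omega
      obtain ⟨y', hy', e⟩ := elY ⟨i, hi2⟩ (C.yC i hi' u)
        (by rw [C.YD_le ⟨i, hi2⟩ hi']; exact (C.mem_YC_iff hi').2 ⟨u, rfl⟩)
      rw [C.YD_le ⟨i, hi2⟩ hi'] at hy'
      obtain ⟨v, rfl⟩ := (C.mem_YC_iff hi').1 hy'
      refine ⟨v, ?_⟩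
      rw [sN_eq_yC, sN_eq_yC]
      exact e)
    (by
      intro u
      have hi2 : C.κ + 1 < C.κ + 2 := by omega
      have hnk : ¬ ((⟨C.κ + 1, hi2⟩ : Fin (C.κ + 2)) : ℕ) ≤ C.κ := by simp
      obtain ⟨y', hy', e⟩ := elX ⟨C.κ + 1, hi2⟩ (C.GamD (C.xC C.κ le_rfl u))
        (by
          rw [C.XD_fork _ hnk, C.mem_XF, C.GamD_GamD]
          exact (C.mem_XC_iff le_rfl).2 ⟨u, rfl⟩)
      rw [C.XD_fork _ hnk, C.mem_XF] at hy'
      obtain ⟨v, hv⟩ := (C.mem_XC_iff le_rfl).1 hy'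
      refine ⟨v, ?_⟩
      rw [fN_eq_GamD, fN_eq_GamD, sN_eq_xC, sN_eq_xC, ← hv, C.GamD_GamD]
      exact e)
    (by
      intro u
      have hi2 : C.κ + 1 < C.κ + 2 := by omega
      have hnk : ¬ ((⟨C.κ + 1, hi2⟩ : Fin (C.κ + 2)) : ℕ) ≤ C.κ := by simp
      obtain ⟨y', hy', e⟩ := elY ⟨C.κ + 1, hi2⟩ (C.GamD (C.yC C.κ le_rfl u))
        (by
          rw [C.YD_fork _ hnk, C.mem_YF, C.GamD_GamD]
          exact (C.mem_YC_iff le_rfl).2 ⟨u, rfl⟩)
      rw [C.YD_fork _ hnk, C.mem_YF] at hy'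
      obtain ⟨v, hv⟩ := (C.mem_YC_iff le_rfl).1 hy'
      refine ⟨v, ?_⟩
      rw [fN_eq_GamD, fN_eq_GamD, sN_eq_yC, sN_eq_yC, ← hv, C.GamD_GamD]
      exact e)
    (dctx_gen C f hf hker)
  refine ⟨ψ, d, μ, hd, ?_⟩
  intro g
  exact hfin g

end Cfsg.Agent.Lib.Helper8.AutDm
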