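import Cfsg.Agent.Lib.Helper8.AutDm.ModelD
import Cfsg.Agent.Lib.Lead.Tri.Model
import Mathlib

/-!
# `Ω⁺₈(F)`: every automorphism of the central quotient of the model is standard, up to the
graph automorphisms (triality and the reflection) (helper8)

The normal form up to a permutation of the nodes (`dm_normal_form0`), lead's triality `triQ`
and the graph automorphism `GamD` (which together realise every automorphism of the Dynkin
diagram of type `D₄`) and lead's model theorem (`DCtx.model_aut`).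
-/

set_option autoImplicit false

namespace Cfsg.Agent.Lib.Helper8.AutDm

open Matrix Cfsg Cfsg.Agent.Lib.Helper5.GLBN Cfsg.Agent.Lib.Helper8.SpBN
open Cfsg.Agent.Lib.Helper8.Tw Cfsg.Agent.PSUT Cfsg.Agent.AutPSU
open Cfsg.Agent.Lib.Helper5.AutBN Cfsg.Agent.Lib.Helper8.AutSp Cfsg.Agent.Lib.Helper5.AutSU
open Cfsg.Agent.Lib.Helper5.AutDO Cfsg.Agent.Lib.Helper5.BN Cfsg.Agent.AutPO
open Cfsg.Agent.Tri
open scoped MatrixGroups

section general

variable {N : ℕ} {F : Type*} [Field F] [Fintype F] (C : DC N) {Q : Type*} [Group Q]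

/-- an automorphism of the central quotient of the model fixing the images of all fundamental
root subgroups is standard -/
theorem aut_standard_of_fix (hκ : 1 ≤ C.κ)
    (f : C.Dm F →* Q) (hf : Function.Surjective f)
    (hker : f.ker = Subgroup.center (C.Dm F)) (τ : Q ≃* Q)
    (hX : ∀ i, ((C.XD (F := F) i).map f).map τ.toMonoidHom = (C.XD (F := F) i).map f)
    (hY : ∀ i, ((C.YD (F := F) i).map f).map τ.toMonoidHom = (C.YD (F := F) i).map f) :
    ∃ (ψ : F ≃+* F) (d : Fin N → Fˣ) (μ : Fˣ)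
      (hd : ∀ i, (d i : F) * (RingHom.id F) (d i.rev) = μ),
      ∀ g : C.Dm F, τ (f g) = f (PhiD C ψ d μ hd g) := by
  have hN := C.hN
  have elX : ∀ (i : Fin (C.κ + 2)) (y : C.Dm F), y ∈ C.XD (F := F) i →
      ∃ y' ∈ C.XD (F := F) i, τ (f y) = f y' := by
    intro i y hy
    have h1 : τ (f y) ∈ ((C.XD (F := F) i).map f).map τ.toMonoidHom :=
      ⟨f y, Subgroup.mem_map_of_mem f hy, rfl⟩
    rw [hX i] at h1
    obtain ⟨y', hy', e⟩ := h1
    exact ⟨y', hy', e.symm⟩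
  have elY : ∀ (i : Fin (C.κ + 2)) (y : C.Dm F), y ∈ C.YD (F := F) i →
      ∃ y' ∈ C.YD (F := F) i, τ (f y) = f y' := by
    intro i y hy
    have h1 : τ (f y) ∈ ((C.YD (F := F) i).map f).map τ.toMonoidHom :=
      ⟨f y, Subgroup.mem_map_of_mem f hy, rfl⟩
    rw [hY i] at h1
    obtain ⟨y', hy', e⟩ := h1
    exact ⟨y', hy', e.symm⟩
  obtain ⟨ψ, d, μ, hd, hfin⟩ := (dctx C f hf hker).model_aut (by show 1 ≤ C.κ; omega)
    (dctx_PhiSInv C f hf hker) τ
    (by
      intro i hi u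
      have hi' : i ≤ C.κ := by omega
      have hi2 : i < C.κ + 2 := by omega
      obtain ⟨y', hy', e⟩ := elX ⟨i, hi2⟩ (C.xC i hi' u)
        (by rw [C.XD_le ⟨i, hi2⟩ hi']; exact (C.mem_XC_iff hi').2 ⟨u, rfl⟩)
      rw [C.XD_le ⟨i, hi2⟩ hi'] at hy'
      obtain ⟨v, rfl⟩ := (C.mem_XC_iff hi').1 hy'
      refine ⟨v, ?_⟩
      rw [sN_eq_xC, sN_eq_xC]
      exact e)
    (by
      intro i hi u
      have hi' : i ≤ C.κ := by omega
      have hi2 : i < C.κ + 2 := by omega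
      obtain ⟨y', hy', e⟩ := elY ⟨i, hi2⟩ (C.yC i hi' u)
        (by rw [C.YD_le ⟨i, hi2⟩ hi']; exact (C.mem_YC_iff hi').2 ⟨u, rfl⟩)
      rw [C.YD_le ⟨i, hi2⟩ hi'] at hy'
      obtain ⟨v, rfl⟩ := (C.mem_YC_iff hi').1 hy'
      refine ⟨v, ?_⟩
      rw [sN_eq_yC, sN_eq_yC]
      exact e)
    (by
      intro u
      have hi2 : C.κ + 1 < C.κ + 2 := by omega
      have hnk : ¬ ((⟨C.κ + 1, hi2⟩ : Fin (C.κ + 2)) : ℕ) ≤ C.κ := by simp
      obtain ⟨y', hy', e⟩ := elX ⟨C.κ + 1, hi2⟩ (C.GamD (C.xC C.κ le_rfl u))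
        (by
          rw [C.XD_fork _ hnk, C.mem_XF, C.GamD_GamD]
          exact (C.mem_XC_iff le_rfl).2 ⟨u, rfl⟩)
      rw [C.XD_fork _ hnk, C.mem_XF] at hy'
      obtain ⟨v, hv⟩ := (C.mem_XC_iff le_rfl).1 hy'
      refine ⟨v, ?_⟩
      rw [fN_eq_GamD, fN_eq_GamD, sN_eq_xC, sN_eq_xC, ← hv, C.GamD_GamD]
      exact e)
    (by
      intro u
      have hi2 : C.κ + 1 < C.κ + 2 := by omega
      have hnk : ¬ ((⟨C.κ + 1, hi2⟩ : Fin (C.κ + 2)) : ℕ) ≤ C.κ := by simp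
      obtain ⟨y', hy', e⟩ := elY ⟨C.κ + 1, hi2⟩ (C.GamD (C.yC C.κ le_rfl u))
        (by
          rw [C.YD_fork _ hnk, C.mem_YF, C.GamD_GamD]
          exact (C.mem_YC_iff le_rfl).2 ⟨u, rfl⟩)
      rw [C.YD_fork _ hnk, C.mem_YF] at hy'
      obtain ⟨v, hv⟩ := (C.mem_YC_iff le_rfl).1 hy'
      refine ⟨v, ?_⟩
      rw [fN_eq_GamD, fN_eq_GamD, sN_eq_yC, sN_eq_yC, ← hv, C.GamD_GamD]
      exact e)
    (dctx_gen C f hf hker)
  exact ⟨ψ, d, μ, hd, hfin⟩

end general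

variable {F : Type*} [Field F] [Fintype F] {Q : Type*} [Group Q]

/-! ### the fundamental root subgroups of `D₄` -/

theorem mem_XD4_iff : ∀ (i : Fin 4) (y : C4.Dm F),
    y ∈ C4.XD (F := F) i ↔ ∃ t : F, y = xr i t
  | 0, y => by
    rw [C4.XD_le (0 : Fin 4) (by decide)]
    exact C4.mem_XC_iff (by decide)
  | 1, y => by
    rw [C4.XD_le (1 : Fin 4) (by decide)]
    exact C4.mem_XC_iff (by decide)
  | 2, y => by
    rw [C4.XD_le (2 : Fin 4) (by decide)]
    exact C4.mem_XC_iff (by decide)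
  | 3, y => by
    rw [C4.XD_fork (3 : Fin 4) (by decide), C4.mem_XF, C4.mem_XC_iff le_rfl]
    constructor
    · rintro ⟨t, ht⟩
      refine ⟨t, ?_⟩
      show y = C4.GamD (C4.xC 2 _ t)
      rw [← C4.GamD_GamD y, ht]
      rfl
    · rintro ⟨t, rfl⟩
      exact ⟨t, C4.GamD_GamD _⟩

theorem mem_YD4_iff : ∀ (i : Fin 4) (y : C4.Dm F),
    y ∈ C4.YD (F := F) i ↔ ∃ t : F, y = yr i t
  | 0, y => by
    rw [C4.YD_le (0 : Fin 4) (by decide)]
    exact C4.mem_YC_iff (by decide)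
  | 1, y => by
    rw [C4.YD_le (1 : Fin 4) (by decide)]
    exact C4.mem_YC_iff (by decide)
  | 2, y => by
    rw [C4.YD_le (2 : Fin 4) (by decide)]
    exact C4.mem_YC_iff (by decide)
  | 3, y => by
    rw [C4.YD_fork (3 : Fin 4) (by decide), C4.mem_YF, C4.mem_YC_iff le_rfl]
    constructor
    · rintro ⟨t, ht⟩
      refine ⟨t, ?_⟩
      show y = C4.GamD (C4.yC 2 _ t)
      rw [← C4.GamD_GamD y, ht]
      rfl
    · rintro ⟨t, rfl⟩
      exact ⟨t, C4.GamD_GamD _⟩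

/-! ### automorphisms permuting the nodes -/

/-- the automorphism `τ` of the central quotient maps the images of the fundamental root
subgroups according to the permutation `σ` of the nodes -/
def NodeMap (f : C4.Dm F →* Q) (τ : Q ≃* Q) (σ : Equiv.Perm (Fin 4)) : Prop :=
  (∀ i : Fin 4, ((C4.XD (F := F) i).map f).map τ.toMonoidHom = (C4.XD (F := F) (σ i)).map f) ∧
  (∀ i : Fin 4, ((C4.YD (F := F) i).map f).map τ.toMonoidHom = (C4.YD (F := F) (σ i)).map f)

theorem nodeMap_refl (f : C4.Dm F →* Q) : NodeMap f (MulEquiv.refl Q) 1 := by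
  constructor
  · intro i
    ext q
    simp
  · intro i
    ext q
    simp

theorem nodeMap_trans (f : C4.Dm F →* Q) {τ₁ τ₂ : Q ≃* Q} {σ₁ σ₂ : Equiv.Perm (Fin 4)}
    (h₁ : NodeMap f τ₁ σ₁) (h₂ : NodeMap f τ₂ σ₂) : NodeMap f (τ₁.trans τ₂) (σ₂ * σ₁) := by
  have htr : ∀ K : Subgroup Q, K.map (τ₁.trans τ₂).toMonoidHom
      = (K.map τ₁.toMonoidHom).map τ₂.toMonoidHom := by
    intro K
    rw [Subgroup.map_map]
    rfl
  constructor
  · intro i
    rw [htr, h₁.1 i, h₂.1 (σ₁ i)]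
    rfl
  · intro i
    rw [htr, h₁.2 i, h₂.2 (σ₁ i)]
    rfl

/-- the rotation of the outer nodes, as a permutation -/
def r4 : Equiv.Perm (Fin 4) := Equiv.swap 0 2 * Equiv.swap 2 3

/-- the exchange of the last two nodes -/
def s4 : Equiv.Perm (Fin 4) := Equiv.swap 2 3

theorem r4_apply : ∀ i : Fin 4, r4 i = rho1 i := by decide

theorem nodeMap_tri (f : C4.Dm F →* Q) (hf : Function.Surjective f)
    (hker : f.ker = Subgroup.center (C4.Dm F)) : NodeMap f (triQ f hf hker) r4 := by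
  constructor
  · intro i
    rw [r4_apply]
    ext q
    constructor
    · rintro ⟨_, ⟨y, hy, rfl⟩, rfl⟩
      obtain ⟨t, rfl⟩ := (mem_XD4_iff i y).1 hy
      refine ⟨xr (rho1 i) t, (mem_XD4_iff _ _).2 ⟨t, rfl⟩, ?_⟩
      exact (triQ_xr f hf hker i t).symm
    · rintro ⟨y, hy, rfl⟩
      obtain ⟨t, rfl⟩ := (mem_XD4_iff _ y).1 hy
      exact ⟨f (xr i t), ⟨xr i t, (mem_XD4_iff _ _).2 ⟨t, rfl⟩, rfl⟩, triQ_xr f hf hker i t⟩
  · intro i
    rw [r4_apply]
    ext q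
    constructor
    · rintro ⟨_, ⟨y, hy, rfl⟩, rfl⟩
      obtain ⟨t, rfl⟩ := (mem_YD4_iff i y).1 hy
      refine ⟨yr (rho1 i) t, (mem_YD4_iff _ _).2 ⟨t, rfl⟩, ?_⟩
      exact (triQ_yr f hf hker i t).symm
    · rintro ⟨y, hy, rfl⟩
      obtain ⟨t, rfl⟩ := (mem_YD4_iff _ y).1 hy
      exact ⟨f (yr i t), ⟨yr i t, (mem_YD4_iff _ _).2 ⟨t, rfl⟩, rfl⟩, triQ_yr f hf hker i t⟩

theorem s4_cases : ∀ i : Fin 4, (((i : ℕ) < 2 ∧ s4 i = i) ∨ (2 ≤ (i : ℕ) ∧ (i : ℕ) + (s4 i : ℕ) = 5)) := by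
  decide

theorem nodeMap_gam (f : C4.Dm F →* Q) (hf : Function.Surjective f)
    (hker : f.ker = Subgroup.center (C4.Dm F)) :
    NodeMap f (descend f hf hker (C4.GamD (F := F))) s4 := by
  constructor
  · intro i
    rw [map_descend]
    congr 1
    exact map_GamD_XD C4 i (s4 i) (s4_cases i)
  · intro i
    rw [map_descend]
    congr 1
    exact map_GamD_YD C4 i (s4 i) (s4_cases i)

/-! ### the automorphisms of the diagram -/

instance decDAdj (κ : ℕ) (i j : Fin (κ + 2)) : Decidable (DAdj κ i j) := by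
  unfold DAdj AdjN
  infer_instance

theorem d4_perm_cases : ∀ σ : Equiv.Perm (Fin 4),
    (∀ i j : Fin 4, DAdj 2 (σ i) (σ j) ↔ DAdj 2 i j) →
    σ⁻¹ = 1 ∨ σ⁻¹ = r4 ∨ σ⁻¹ = r4 * r4 ∨ σ⁻¹ = s4 ∨ σ⁻¹ = s4 * r4 ∨ σ⁻¹ = r4 * s4 := by
  decide

/-- the normal form up to a permutation of the four nodes -/
theorem d4_normal_form0 (p : ℕ) [Fact p.Prime] [CharP F p]
    (f : C4.Dm F →* Q) (hf : Function.Surjective f)
    (hker : f.ker = Subgroup.center (C4.Dm F)) (θ : Q ≃* Q) :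
    ∃ (x : Q) (ρ : Equiv.Perm (Fin 4)), NodeMap f (θ.trans (MulAut.conj x⁻¹)) ρ := by
  obtain ⟨x, ρ, -, -, -, hXp, hXm⟩ := dm_normal_form0 C4 p f hf (le_of_eq hker) θ
  exact ⟨x, ρ, hXp, hXm⟩

/-- **Every automorphism of the central quotient of the model of `Ω⁺₈(F)` is standard**: the
composite of an inner automorphism, one of the six graph automorphisms generated by triality and
the reflection, and a standard automorphism `g ↦ d ψ(g) d⁻¹`, `d` a diagonal similitude.  (In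
`MulAut Q` the product `a * b` is `b` followed by `a`.) -/
theorem d4_aut_standard_explicit (p : ℕ) [Fact p.Prime] [CharP F p]
    (f : C4.Dm F →* Q) (hf : Function.Surjective f)
    (hker : f.ker = Subgroup.center (C4.Dm F)) (θ : Q ≃* Q) :
    ∃ (x : Q) (γ : MulAut Q),
      (γ = 1 ∨ γ = triQ f hf hker ∨ γ = triQ f hf hker * triQ f hf hker ∨
        γ = descend f hf hker (C4.GamD (F := F)) ∨
        γ = descend f hf hker (C4.GamD (F := F)) * triQ f hf hker ∨
        γ = triQ f hf hker * descend f hf hker (C4.GamD (F := F))) ∧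
      ∃ (ψ : F ≃+* F) (d : Fin 8 → Fˣ) (μ : Fˣ)
        (hd : ∀ i, (d i : F) * (RingHom.id F) (d i.rev) = μ),
        ∀ g : C4.Dm F, γ (MulAut.conj x⁻¹ (θ (f g))) = f (PhiD C4 ψ d μ hd g) := by
  obtain ⟨x, ρ, hXp, hXm⟩ := d4_normal_form0 p f hf hker θ
  have hadj : ∀ i j : Fin 4, DAdj 2 (ρ i) (ρ j) ↔ DAdj 2 i j := by
    intro i j
    by_cases hij : i = j
    · subst hij
      unfold DAdj AdjN
      omega
    · have h1 := commIm_iff C4 f (le_of_eq hker) i j hij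
      have h2 := commIm_iff C4 f (le_of_eq hker) (ρ i) (ρ j) (fun e => hij (ρ.injective e))
      have h3 := commIm_transport f (θ.trans (MulAut.conj x⁻¹)) (hXp i) (hXp j)
      rw [← not_iff_not]
      exact (h2.symm.trans h3.symm).trans h1 |>.symm |>.symm
  have h0 : NodeMap f (θ.trans (MulAut.conj x⁻¹)) ρ := ⟨hXp, hXm⟩
  have key : ∀ γ : Q ≃* Q, NodeMap f γ ρ⁻¹ →
      ∃ (ψ : F ≃+* F) (d : Fin 8 → Fˣ) (μ : Fˣ)
        (hd : ∀ i, (d i : F) * (RingHom.id F) (d i.rev) = μ),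
        ∀ g : C4.Dm F, γ (MulAut.conj x⁻¹ (θ (f g))) = f (PhiD C4 ψ d μ hd g) := by
    intro γ hγ
    have h1 := nodeMap_trans f h0 hγ
    rw [inv_mul_cancel] at h1
    obtain ⟨ψ, d, μ, hd, hfin⟩ := aut_standard_of_fix C4 (by decide) f hf hker
      ((θ.trans (MulAut.conj x⁻¹)).trans γ) h1.1 h1.2
    exact ⟨ψ, d, μ, hd, fun g => hfin g⟩
  have ht := nodeMap_tri f hf hker
  have hg := nodeMap_gam f hf hker
  rcases d4_perm_cases ρ hadj with e | e | e | e | e | e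
  · exact ⟨x, 1, Or.inl rfl, key (MulEquiv.refl Q) (by rw [e]; exact nodeMap_refl f)⟩
  · exact ⟨x, triQ f hf hker, Or.inr (Or.inl rfl), key (triQ f hf hker) (by rw [e]; exact ht)⟩
  · exact ⟨x, triQ f hf hker * triQ f hf hker, Or.inr (Or.inr (Or.inl rfl)),
      key ((triQ f hf hker).trans (triQ f hf hker)) (by rw [e]; exact nodeMap_trans f ht ht)⟩
  · exact ⟨x, descend f hf hker (C4.GamD (F := F)), Or.inr (Or.inr (Or.inr (Or.inl rfl))),
      key (descend f hf hker (C4.GamD (F := F))) (by rw [e]; exact hg)⟩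
  · exact ⟨x, descend f hf hker (C4.GamD (F := F)) * triQ f hf hker,
      Or.inr (Or.inr (Or.inr (Or.inr (Or.inl rfl)))),
      key ((triQ f hf hker).trans (descend f hf hker (C4.GamD (F := F))))
        (by rw [e]; exact nodeMap_trans f ht hg)⟩
  · exact ⟨x, triQ f hf hker * descend f hf hker (C4.GamD (F := F)),
      Or.inr (Or.inr (Or.inr (Or.inr (Or.inr rfl)))),
      key ((descend f hf hker (C4.GamD (F := F))).trans (triQ f hf hker))
        (by rw [e]; exact nodeMap_trans f hg ht)⟩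

/-- **Every automorphism of the central quotient of the model of `Ω⁺₈(F)` is standard**, with
the graph automorphism in the subgroup generated by triality and the reflection. -/
theorem d4_aut_standard (p : ℕ) [Fact p.Prime] [CharP F p]
    (f : C4.Dm F →* Q) (hf : Function.Surjective f)
    (hker : f.ker = Subgroup.center (C4.Dm F)) (θ : Q ≃* Q) :
    ∃ (x : Q) (γ : MulAut Q),
      γ ∈ Subgroup.closure
        ({triQ f hf hker, descend f hf hker (C4.GamD (F := F))} : Set (MulAut Q)) ∧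
      ∃ (ψ : F ≃+* F) (d : Fin 8 → Fˣ) (μ : Fˣ)
        (hd : ∀ i, (d i : F) * (RingHom.id F) (d i.rev) = μ),
        ∀ g : C4.Dm F, γ (MulAut.conj x⁻¹ (θ (f g))) = f (PhiD C4 ψ d μ hd g) := by
  obtain ⟨x, γ, hγ, h⟩ := d4_aut_standard_explicit p f hf hker θ
  refine ⟨x, γ, ?_, h⟩
  have ht : (triQ f hf hker : MulAut Q) ∈ Subgroup.closure
      ({triQ f hf hker, descend f hf hker (C4.GamD (F := F))} : Set (MulAut Q)) :=
    Subgroup.subset_closure (Set.mem_insert _ _)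
  have hg : (descend f hf hker (C4.GamD (F := F)) : MulAut Q) ∈ Subgroup.closure
      ({triQ f hf hker, descend f hf hker (C4.GamD (F := F))} : Set (MulAut Q)) :=
    Subgroup.subset_closure (Set.mem_insert_of_mem _ rfl)
  rcases hγ with rfl | rfl | rfl | rfl | rfl | rfl
  · exact one_mem _
  · exact ht
  · exact mul_mem ht ht
  · exact hg
  · exact mul_mem hg ht
  · exact mul_mem ht hg

end Cfsg.Agent.Lib.Helper8.AutDm
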