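import Cfsg.Agent.Lib.Helper8.AutDm.ModelD4
import Cfsg.Agent.Lib.Lead.Tri.Props
import Mathlib

/-!
# `Ω⁺₈(F)`: the group generated by triality and the reflection (helper8)

Every element of the subgroup of `MulAut Q` generated by `triQ` and `GamQ` permutes the
fundamental root elements `f (xr i t)`, `f (yr i t)` by a permutation of the nodes fixing the
central node `1`, and is determined by that permutation; hence the subgroup has at most six
elements.
-/

set_option autoImplicit false

namespace Cfsg.Agent.Lib.Helper8.AutDm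

open Matrix Cfsg Cfsg.Agent.Lib.Helper5.GLBN Cfsg.Agent.Lib.Helper8.SpBN
open Cfsg.Agent.Lib.Helper8.Tw Cfsg.Agent.PSUT Cfsg.Agent.AutPSU
open Cfsg.Agent.Lib.Helper5.AutBN Cfsg.Agent.Lib.Helper8.AutSp Cfsg.Agent.Lib.Helper5.AutSU
open Cfsg.Agent.Lib.Helper5.AutDO Cfsg.Agent.Lib.Helper5.BN Cfsg.Agent.AutPO
open Cfsg.Agent.Tri
open scoped MatrixGroups

variable {F : Type*} [Field F] [Fintype F] {Q : Type*} [Group Q]

/-- the automorphism `a` of the quotient permutes the fundamental root elements by `s` -/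
def PermAct (f : C4.Dm F →* Q) (a : MulAut Q) (s : Equiv.Perm (Fin 4)) : Prop :=
  (∀ (i : Fin 4) (t : F), a (f (xr i t)) = f (xr (s i) t)) ∧
  (∀ (i : Fin 4) (t : F), a (f (yr i t)) = f (yr (s i) t))

theorem permAct_one (f : C4.Dm F →* Q) : PermAct f (1 : MulAut Q) 1 :=
  ⟨fun _ _ => rfl, fun _ _ => rfl⟩

theorem permAct_mul (f : C4.Dm F →* Q) {a b : MulAut Q} {s u : Equiv.Perm (Fin 4)}
    (ha : PermAct f a s) (hb : PermAct f b u) : PermAct f (a * b) (s * u) := by
  constructor
  · intro i t
    rw [MulAut.mul_apply, hb.1 i t, ha.1 (u i) t]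
    rfl
  · intro i t
    rw [MulAut.mul_apply, hb.2 i t, ha.2 (u i) t]
    rfl

theorem permAct_inv (f : C4.Dm F →* Q) {a : MulAut Q} {s : Equiv.Perm (Fin 4)}
    (ha : PermAct f a s) : PermAct f a⁻¹ s⁻¹ := by
  constructor
  · intro i t
    have h := ha.1 (s⁻¹ i) t
    rw [← Equiv.Perm.mul_apply, mul_inv_cancel, Equiv.Perm.one_apply] at h
    rw [← h, MulAut.inv_apply_self]
  · intro i t
    have h := ha.2 (s⁻¹ i) t
    rw [← Equiv.Perm.mul_apply, mul_inv_cancel, Equiv.Perm.one_apply] at h
    rw [← h, MulAut.inv_apply_self]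

theorem s4_apply : ∀ i : Fin 4, s4 i = gam i := by decide

theorem permAct_tri (f : C4.Dm F →* Q) (hf : Function.Surjective f)
    (hker : f.ker = Subgroup.center (C4.Dm F)) : PermAct f (triQ f hf hker : MulAut Q) r4 := by
  constructor
  · intro i t
    rw [r4_apply]
    exact triQ_xr f hf hker i t
  · intro i t
    rw [r4_apply]
    exact triQ_yr f hf hker i t

theorem permAct_gam (f : C4.Dm F →* Q) (hf : Function.Surjective f)
    (hker : f.ker = Subgroup.center (C4.Dm F)) : PermAct f (GamQ f hf hker : MulAut Q) s4 := by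
  constructor
  · intro i t
    rw [s4_apply]
    exact GamQ_xr f hf hker i t
  · intro i t
    rw [s4_apply]
    exact GamQ_yr f hf hker i t

/-- an automorphism fixing all the fundamental root elements is the identity -/
theorem eq_one_of_permAct_one (f : C4.Dm F →* Q) (hf : Function.Surjective f) {a : MulAut Q}
    (ha : PermAct f a 1) : a = 1 := by
  apply equiv_ext_xr f hf
  · intro i t
    exact ha.1 i t
  · intro i t
    exact ha.2 i t

theorem r4_one : r4 1 = 1 := by decide

theorem s4_one : s4 1 = 1 := by decide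

/-- **the elements of the group generated by triality and the reflection permute the
fundamental root elements**, fixing the central node -/
theorem exists_permAct_of_mem_closure (f : C4.Dm F →* Q) (hf : Function.Surjective f)
    (hker : f.ker = Subgroup.center (C4.Dm F)) {a : MulAut Q}
    (ha : a ∈ Subgroup.closure ({triQ f hf hker, GamQ f hf hker} : Set (MulAut Q))) :
    ∃ s : Equiv.Perm (Fin 4), PermAct f a s ∧ s 1 = 1 := by
  induction ha using Subgroup.closure_induction with
  | mem x hx =>
    rcases hx with rfl | hx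
    · exact ⟨r4, permAct_tri f hf hker, r4_one⟩
    · rw [Set.mem_singleton_iff] at hx
      subst hx
      exact ⟨s4, permAct_gam f hf hker, s4_one⟩
  | one => exact ⟨1, permAct_one f, rfl⟩
  | mul x y _ _ hx hy =>
    obtain ⟨s, hs, hs1⟩ := hx
    obtain ⟨u, hu, hu1⟩ := hy
    refine ⟨s * u, permAct_mul f hs hu, ?_⟩
    rw [Equiv.Perm.mul_apply, hu1, hs1]
  | inv x _ hx =>
    obtain ⟨s, hs, hs1⟩ := hx
    refine ⟨s⁻¹, permAct_inv f hs, ?_⟩
    rw [Equiv.Perm.inv_eq_iff_eq]
    exact hs1.symm

/-- lead's shape -/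
theorem closure_tri_perm (f : C4.Dm F →* Q) (hf : Function.Surjective f)
    (hker : f.ker = Subgroup.center (C4.Dm F)) {a : MulAut Q}
    (ha : a ∈ Subgroup.closure ({triQ f hf hker, GamQ f hf hker} : Set (MulAut Q))) :
    ∃ s : Equiv.Perm (Fin 4), (∀ (i : Fin 4) (t : F), a (f (xr i t)) = f (xr (s i) t)) ∧
      (∀ (i : Fin 4) (t : F), a (f (yr i t)) = f (yr (s i) t)) ∧ s 1 = 1 ∧ (s = 1 → a = 1) := by
  obtain ⟨s, hs, hs1⟩ := exists_permAct_of_mem_closure f hf hker ha
  refine ⟨s, hs.1, hs.2, hs1, ?_⟩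
  rintro rfl
  exact eq_one_of_permAct_one f hf hs

theorem card_perm_fix_one : Fintype.card {s : Equiv.Perm (Fin 4) // s 1 = 1} = 6 := by
  decide

/-- **the group generated by triality and the reflection has at most six elements** -/
theorem card_closure_tri_le (f : C4.Dm F →* Q) (hf : Function.Surjective f)
    (hker : f.ker = Subgroup.center (C4.Dm F)) :
    Nat.card ↥(Subgroup.closure ({triQ f hf hker, GamQ f hf hker} : Set (MulAut Q))) ≤ 6 := by
  classical
  let Φ : ↥(Subgroup.closure ({triQ f hf hker, GamQ f hf hker} : Set (MulAut Q))) →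
      {s : Equiv.Perm (Fin 4) // s 1 = 1} := fun a =>
    ⟨Classical.choose (exists_permAct_of_mem_closure f hf hker a.2),
      (Classical.choose_spec (exists_permAct_of_mem_closure f hf hker a.2)).2⟩
  have hΦ : ∀ a : ↥(Subgroup.closure ({triQ f hf hker, GamQ f hf hker} : Set (MulAut Q))),
      PermAct f (a : MulAut Q) (Φ a).1 := fun a =>
    (Classical.choose_spec (exists_permAct_of_mem_closure f hf hker a.2)).1
  have hinj : Function.Injective Φ := by
    intro a b hab
    have h1 : PermAct f ((a : MulAut Q) * (b : MulAut Q)⁻¹) ((Φ a).1 * (Φ b).1⁻¹) :=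
      permAct_mul f (hΦ a) (permAct_inv f (hΦ b))
    rw [hab, mul_inv_cancel] at h1
    have h2 := eq_one_of_permAct_one f hf h1
    apply Subtype.ext
    exact mul_inv_eq_one.1 h2
  have h3 := Nat.card_le_card_of_injective Φ hinj
  have h4 : Nat.card {s : Equiv.Perm (Fin 4) // s 1 = 1} = 6 := by
    rw [Nat.card_eq_fintype_card]
    exact card_perm_fix_one
  rw [h4] at h3
  exact h3

end Cfsg.Agent.Lib.Helper8.AutDm
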