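import Cfsg.Agent.Lib.Helper8.AutDm.NormalFormA
import Cfsg.Agent.Lib.Helper8.AutSp.Auts
import Mathlib

/-!
# `Ω⁺_{2κ+4}(F)`, `κ ≥ 3`: the normal form of an automorphism of the central quotient (helper8)

Every automorphism of the central quotient of the model is, after composition with an inner
automorphism and possibly with the graph automorphism, one which fixes the images of `U`, `V`,
`B` and of every fundamental root subgroup.
-/

set_option autoImplicit false

namespace Cfsg.Agent.Lib.Helper8.AutDm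

open Matrix Cfsg Cfsg.Agent.Lib.Helper5.GLBN Cfsg.Agent.Lib.Helper8.SpBN
open Cfsg.Agent.Lib.Helper8.Tw Cfsg.Agent.PSUT
open Cfsg.Agent.Lib.Helper5.AutBN Cfsg.Agent.Lib.Helper8.AutSp Cfsg.Agent.Lib.Helper5.AutSU
open Cfsg.Agent.Lib.Helper5.AutDO Cfsg.Agent.Lib.Helper5.BN
open scoped MatrixGroups

variable {N : ℕ} {F : Type*} [Field F] [Fintype F] (C : DC N)

theorem XD_le_UD (i : Fin (C.κ + 2)) : C.XD (F := F) i ≤ C.UD := (C.rdata (F := F)).X_le i

/-- the images of the positive root subgroups of two distinct nodes commute exactly when the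
nodes are not adjacent -/
theorem commIm_iff {Q : Type*} [Group Q] (f : C.Dm F →* Q)
    (hker : f.ker ≤ Subgroup.center (C.Dm F)) (i j : Fin (C.κ + 2)) (hij : i ≠ j) :
    CommIm f (C.XD (F := F) i) (C.XD (F := F) j) ↔ ¬ DAdj C.κ i j := by
  have hi2 := i.2
  have hj2 := j.2
  have hij' : (i : ℕ) ≠ j := fun e => hij (Fin.ext e)
  constructor
  · intro hc hadj
    unfold DAdj AdjN at hadj
    rcases hadj with ⟨h1, h2⟩ | ⟨h1, h2⟩ | ⟨h1, h2⟩ | ⟨h1, h2⟩
    · have hi : (i : ℕ) ≤ C.κ := by omega
      have hn := adj_ncomm_chain C (F := F) (i := i) (by omega)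
      rw [h1] at hn
      rw [C.XD_le i hi, C.XD_le j h2] at hc
      exact not_commIm C f hker (C.XC_le_UD _) (C.XC_le_UD _) hn hc
    · have hj : (j : ℕ) ≤ C.κ := by omega
      have hn := adj_ncomm_chain C (F := F) (i := j) (by omega)
      rw [h1] at hn
      rw [C.XD_le i h2, C.XD_le j hj] at hc
      exact not_commIm C f hker (C.XC_le_UD _) (C.XC_le_UD _) hn (commIm_symm f hc)
    · have hn := adj_ncomm_fork C (F := F) h1
      rw [C.XD_le i (by omega), C.XD_fork j (by omega)] at hc
      exact not_commIm C f hker (C.XC_le_UD _) C.XF_le_UD hn hc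
    · have hn := adj_ncomm_fork C (F := F) h1
      rw [C.XD_le j (by omega), C.XD_fork i (by omega)] at hc
      exact not_commIm C f hker (C.XC_le_UD _) C.XF_le_UD hn (commIm_symm f hc)
  · intro hn
    unfold DAdj AdjN at hn
    apply commIm_of_comm
    intro x hx y hy
    by_cases hi : (i : ℕ) ≤ C.κ
    · rw [C.XD_le i hi] at hx
      by_cases hj : (j : ℕ) ≤ C.κ
      · rw [C.XD_le j hj] at hy
        exact comm_XC_XC C hi hj hij' (by omega) (by omega) hx hy
      · rw [C.XD_fork j hj] at hy
        exact comm_XC_XF C hi (by omega) hx hy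
    · rw [C.XD_fork i hi] at hx
      have hj : (j : ℕ) ≤ C.κ := by omega
      rw [C.XD_le j hj] at hy
      exact (comm_XC_XF C hj (by omega) hy hx).symm

/-- the image under the central quotient of the image of a subgroup under an automorphism -/
theorem map_descend {G Q : Type*} [Group G] [Group Q] (f : G →* Q)
    (hf : Function.Surjective f) (hker : f.ker = Subgroup.center G) (Φ : G ≃* G)
    (K : Subgroup G) :
    (K.map f).map (descend f hf hker Φ).toMonoidHom = (K.map Φ.toMonoidHom).map f := by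
  ext y
  constructor
  · rintro ⟨_, ⟨k, hk, rfl⟩, rfl⟩
    refine ⟨Φ k, ⟨k, hk, rfl⟩, ?_⟩
    exact (descend_apply f hf hker Φ k).symm
  · rintro ⟨_, ⟨k, hk, rfl⟩, rfl⟩
    exact ⟨f k, ⟨k, hk, rfl⟩, descend_apply f hf hker Φ k⟩

theorem map_GamD_XC {j : ℕ} (hj : j < C.κ) :
    (C.XC (F := F) j).map (C.GamD (F := F)).toMonoidHom = C.XC j := by
  apply le_antisymm
  · rintro _ ⟨x, hx, rfl⟩
    show C.GamD x ∈ _
    rw [GamD_fix_XC C hj hx]
    exact hx
  · intro x hx
    exact ⟨x, hx, GamD_fix_XC C hj hx⟩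

theorem map_GamD_YC {j : ℕ} (hj : j < C.κ) :
    (C.YC (F := F) j).map (C.GamD (F := F)).toMonoidHom = C.YC j := by
  apply le_antisymm
  · rintro _ ⟨x, hx, rfl⟩
    show C.GamD x ∈ _
    rw [GamD_fix_YC C hj hx]
    exact hx
  · intro x hx
    exact ⟨x, hx, GamD_fix_YC C hj hx⟩

theorem map_GamD_XF : (C.XF (F := F)).map (C.GamD (F := F)).toMonoidHom = C.XC C.κ := by
  ext x
  constructor
  · rintro ⟨y, hy, rfl⟩
    exact C.mem_XF.1 hy
  · intro hx
    exact ⟨C.GamD x, C.mem_XF.2 (by rw [C.GamD_GamD]; exact hx), C.GamD_GamD x⟩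

theorem map_GamD_YF : (C.YF (F := F)).map (C.GamD (F := F)).toMonoidHom = C.YC C.κ := by
  ext x
  constructor
  · rintro ⟨y, hy, rfl⟩
    exact C.mem_YF.1 hy
  · intro hx
    exact ⟨C.GamD x, C.mem_YF.2 (by rw [C.GamD_GamD]; exact hx), C.GamD_GamD x⟩

/-- the graph automorphism exchanges the root subgroups of the last two nodes -/
theorem map_GamD_XD (i j : Fin (C.κ + 2))
    (h : ((i : ℕ) < C.κ ∧ j = i) ∨ (C.κ ≤ (i : ℕ) ∧ (i : ℕ) + j = 2 * C.κ + 1)) :
    (C.XD (F := F) i).map (C.GamD (F := F)).toMonoidHom = C.XD j := by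
  have hi2 := i.2
  have hj2 := j.2
  rcases h with ⟨h1, rfl⟩ | ⟨h1, h2⟩
  · rw [C.XD_le j (by omega)]
    exact map_GamD_XC C h1
  · by_cases hi : (i : ℕ) ≤ C.κ
    · have e : (i : ℕ) = C.κ := by omega
      rw [C.XD_le i hi, C.XD_fork j (by omega), e]
      rfl
    · rw [C.XD_fork i hi, C.XD_le j (by omega), map_GamD_XF]
      congr 1
      omega

/-- the graph automorphism exchanges the negative root subgroups of the last two nodes -/
theorem map_GamD_YD (i j : Fin (C.κ + 2))
    (h : ((i : ℕ) < C.κ ∧ j = i) ∨ (C.κ ≤ (i : ℕ) ∧ (i : ℕ) + j = 2 * C.κ + 1)) :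
    (C.YD (F := F) i).map (C.GamD (F := F)).toMonoidHom = C.YD j := by
  have hi2 := i.2
  have hj2 := j.2
  rcases h with ⟨h1, rfl⟩ | ⟨h1, h2⟩
  · rw [C.YD_le j (by omega)]
    exact map_GamD_YC C h1
  · by_cases hi : (i : ℕ) ≤ C.κ
    · have e : (i : ℕ) = C.κ := by omega
      rw [C.YD_le i hi, C.YD_fork j (by omega), e]
      rfl
    · rw [C.YD_fork i hi, C.YD_le j (by omega), map_GamD_YF]
      congr 1
      omega

/-- **The normal form.**  Every automorphism of the central quotient of the model of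
`Ω⁺_{2κ+4}(F)`, `κ ≥ 3`, is, up to an inner automorphism and possibly the graph automorphism, one
which fixes the images of `U`, `V`, `B` and of all fundamental root subgroups. -/
theorem dm_normal_form (hκ : 3 ≤ C.κ) (p : ℕ) [Fact p.Prime] [CharP F p] {Q : Type*} [Group Q]
    (f : C.Dm F →* Q) (hf : Function.Surjective f)
    (hker : f.ker = Subgroup.center (C.Dm F)) (θ : Q ≃* Q) :
    ∃ (x : Q) (γ : Q ≃* Q),
      (γ = MulEquiv.refl Q ∨ γ = descend f hf hker (C.GamD (F := F))) ∧
      ((C.UD (F := F)).map f).map ((θ.trans (MulAut.conj x⁻¹)).trans γ).toMonoidHom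
        = (C.UD (F := F)).map f ∧
      ((C.VD (F := F)).map f).map ((θ.trans (MulAut.conj x⁻¹)).trans γ).toMonoidHom
        = (C.VD (F := F)).map f ∧
      ((C.BD (F := F)).map f).map ((θ.trans (MulAut.conj x⁻¹)).trans γ).toMonoidHom
        = (C.BD (F := F)).map f ∧
      (∀ i, ((C.XD (F := F) i).map f).map ((θ.trans (MulAut.conj x⁻¹)).trans γ).toMonoidHom
        = (C.XD (F := F) i).map f) ∧
      (∀ i, ((C.YD (F := F) i).map f).map ((θ.trans (MulAut.conj x⁻¹)).trans γ).toMonoidHom
        = (C.YD (F := F) i).map f) := by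
  obtain ⟨x, ρ, hU, hV, hB, hXp, hXm⟩ := dm_normal_form0 C p f hf (le_of_eq hker) θ
  have hadj : ∀ i j, DAdj C.κ (ρ i) (ρ j) ↔ DAdj C.κ i j := by
    intro i j
    by_cases hij : i = j
    · subst hij
      unfold DAdj AdjN
      omega
    · have h1 := commIm_iff C f (le_of_eq hker) i j hij
      have h2 := commIm_iff C f (le_of_eq hker) (ρ i) (ρ j) (fun e => hij (ρ.injective e))
      have h3 := commIm_transport f (θ.trans (MulAut.conj x⁻¹)) (hXp i) (hXp j)
      rw [← not_iff_not, ← h2, ← h1]
      exact h3.symm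
  obtain ⟨hlow, hup⟩ := dgraph_values hκ ρ hadj
  have htr : ∀ (γ : Q ≃* Q) (K : Subgroup Q),
      K.map ((θ.trans (MulAut.conj x⁻¹)).trans γ).toMonoidHom
        = (K.map (θ.trans (MulAut.conj x⁻¹)).toMonoidHom).map γ.toMonoidHom := by
    intro γ K
    rw [Subgroup.map_map]
    rfl
  rcases hup with h | h
  · have hρ : ρ = 1 := by
      ext i
      rw [h i, Equiv.Perm.one_apply]
    subst hρ
    refine ⟨x, MulEquiv.refl Q, Or.inl rfl, ?_, ?_, ?_, ?_, ?_⟩
    · exact hU
    · exact hV
    · exact hB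
    · exact hXp
    · exact hXm
  · refine ⟨x, descend f hf hker (C.GamD (F := F)), Or.inr rfl, ?_, ?_, ?_, ?_, ?_⟩
    · rw [htr, hU, map_descend, map_GamD_UD]
    · rw [htr, hV, map_descend, map_GamD_VD]
    · rw [htr, hB, map_descend, map_GamD_BD]
    · intro i
      rw [htr, hXp i, map_descend]
      congr 1
      apply map_GamD_XD
      have hi2 := i.2
      by_cases hi : (i : ℕ) < C.κ
      · left
        have e := hlow i (by omega)
        refine ⟨by omega, ?_⟩
        rw [Fin.ext e]
      · right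
        have e := h i (by omega)
        have e' := hlow
        have hi3 : C.κ ≤ (ρ i : ℕ) := by
          by_contra hlt
          have e2 := hlow (ρ i) (by omega)
          have : ρ i = i := ρ.injective (Fin.ext e2)
          rw [this] at hlt
          omega
        omega
    · intro i
      rw [htr, hXm i, map_descend]
      congr 1
      apply map_GamD_YD
      have hi2 := i.2
      by_cases hi : (i : ℕ) < C.κ
      · left
        have e := hlow i (by omega)
        refine ⟨by omega, ?_⟩
        rw [Fin.ext e]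
      · right
        have e := h i (by omega)
        have hi3 : C.κ ≤ (ρ i : ℕ) := by
          by_contra hlt
          have e2 := hlow (ρ i) (by omega)
          have : ρ i = i := ρ.injective (Fin.ext e2)
          rw [this] at hlt
          omega
        omega

end Cfsg.Agent.Lib.Helper8.AutDm
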